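import Cfsg.Agent.H618.Sigma
import Cfsg.Agent.S0867
import Cfsg.Agent.Blocks.Covering
import Cfsg.Agent.Blocks.PRegular
import Cfsg.Agent.Transfer.NormalPComplement
import Cfsg.Agent.Transfer.Residual
import Cfsg.Agent.Characters.Linear
import Cfsg.Agent.OddOrderCharacters.GaloisTwist
import Cfsg.Agent.CharactersDeep.ExtUnique

/-!
# The residual `A = O²(G)` and the cubing automorphism

* `detChar_sig`: the determinantal character of `sig χ` is the `k`-th power of that of `χ`;
* `odd_detOrder`: the characters of `A = O²(G)` have odd determinantal order;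
* `InvB`: the `G`-invariant, `sig`-fixed odd-degree members of the principal 2-block of `A`;
  their number is even if `A` has even order (`even_card_inv`);
* `exists_canonical`: each of them extends to a `sig`-fixed odd-degree member of the principal 2-block
  of `G`.
-/

set_option autoImplicit false
open scoped ComplexConjugate
open Cfsg Cfsg.Agent.H618.Sigma

namespace Cfsg.Agent.H618.Resid

universe u
variable {G : Type u} [Group G] {k : ℕ}

theorem fact_two : Fact (Nat.Prime 2) := ⟨Nat.prime_two⟩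

/-! ### determinants -/

theorem detChar_sig [Finite G] (h : Cube G k) (χ : IrrCharacter G) :
    detChar (sig h χ : G → ℂ) = (detChar (χ : G → ℂ)) ^ k := by
  obtain ⟨σ, hσ⟩ := Cfsg.Agent.Characters.Galois.exists_ringEquiv_complex
    (Nat.card_pos (α := G)).ne' h.coprime
  obtain ⟨n, ρ, hρ, hχ⟩ := χ.2
  have h1 : (sig h χ : G → ℂ) =
      (Cfsg.Agent.OddOrderCharacters.GaloisTwist.twist σ ρ).character := by
    funext g
    rw [Cfsg.Agent.OddOrderCharacters.GaloisTwist.twist_character, sig_apply, ← hχ]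
    exact (Cfsg.Agent.OddOrderCharacters.GaloisTwist.map_apply σ (Nat.card_pos (α := G)).ne' hσ
      ⟨n, ρ, rfl⟩ g pow_card_eq_one').symm
  rw [h1, ← hχ, Cfsg.Agent.CharactersDeep.ExtUnique.detChar_of_rep _
    (Cfsg.Agent.OddOrderCharacters.GaloisTwist.twist_isIrreducible σ ρ hρ),
    Cfsg.Agent.CharactersDeep.ExtUnique.detChar_of_rep ρ hρ]
  funext g
  have h2 : LinearMap.det (Cfsg.Agent.OddOrderCharacters.GaloisTwist.twist σ ρ g) =
      σ (LinearMap.det (ρ g)) := by
    show LinearMap.det (Matrix.toLin' ((LinearMap.toMatrix' (ρ g)).map σ)) = _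
    rw [LinearMap.det_toLin', ← LinearMap.det_toMatrix' (f := ρ g)]
    exact ((σ : ℂ →+* ℂ).map_det (LinearMap.toMatrix' (ρ g))).symm
  rw [h2, Pi.pow_apply]
  apply hσ
  rw [← map_pow, ← map_pow, pow_card_eq_one', map_one, map_one]

theorem coprime_detOrder_sig [Finite G] (h : Cube G k) (χ : IrrCharacter G) {m : ℕ}
    (hm : Nat.Coprime m (detOrder (χ : G → ℂ))) :
    Nat.Coprime m (detOrder (sig h χ : G → ℂ)) := by
  refine Nat.Coprime.coprime_dvd_right ?_ hm
  show orderOf (detChar (sig h χ : G → ℂ)) ∣ orderOf (detChar (χ : G → ℂ))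
  rw [detChar_sig]
  exact orderOf_pow_dvd k

/-- A linear character of `O²(G)` with square one is trivial. -/
theorem hom_eq_one_of_sq [Finite G] (δ : pResidual 2 G →* ℂˣ) (hδ : ∀ x, δ x ^ 2 = 1)
    (x : pResidual 2 G) : δ x = 1 := by
  have := fact_two
  have h1 : IsPGroup 2 δ.range := by
    intro y
    obtain ⟨x, hx⟩ := y.2
    refine ⟨1, Subtype.ext ?_⟩
    rw [pow_one, Subgroup.coe_pow, ← hx, hδ]
    rfl
  have h2 := Cfsg.Agent.Transfer.NormalPComplement.hom_pResidual_eq_one h1 δ.rangeRestrict x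
  exact congrArg Subtype.val h2

theorem odd_detOrder [Finite G] (ψ : IrrCharacter (pResidual 2 G)) :
    Odd (detOrder (ψ : pResidual 2 G → ℂ)) := by
  obtain ⟨δ, hδ⟩ := Cfsg.Agent.CharactersDeep.ExtUnique.exists_hom_detChar ψ.2
  by_contra hodd
  rw [Nat.not_odd_iff_even, even_iff_two_dvd] at hodd
  obtain ⟨m, hm⟩ := hodd
  have hfin : IsOfFinOrder (detChar (ψ : pResidual 2 G → ℂ)) := by
    rw [isOfFinOrder_iff_pow_eq_one]
    refine ⟨Nat.card (pResidual 2 G), Nat.card_pos, ?_⟩
    funext x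
    rw [Pi.pow_apply, hδ, Pi.one_apply, ← Units.val_pow_eq_pow_val, ← map_pow, pow_card_eq_one',
      map_one, Units.val_one]
  have hpos : 0 < detOrder (ψ : pResidual 2 G → ℂ) := hfin.orderOf_pos
  have hmpos : 0 < m := by omega
  have h1 : ∀ x, (δ ^ m) x = 1 := by
    apply hom_eq_one_of_sq
    intro x
    rw [MonoidHom.pow_apply, ← pow_mul, mul_comm, ← hm]
    apply Units.ext
    rw [Units.val_pow_eq_pow_val, ← hδ]
    have h2 := pow_orderOf_eq_one (detChar (ψ : pResidual 2 G → ℂ))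
    exact congrFun h2 x
  have h3 : (detChar (ψ : pResidual 2 G → ℂ)) ^ m = 1 := by
    funext x
    rw [Pi.pow_apply, hδ, Pi.one_apply, ← Units.val_pow_eq_pow_val, ← MonoidHom.pow_apply, h1,
      Units.val_one]
  have h4 : detOrder (ψ : pResidual 2 G → ℂ) ∣ m := orderOf_dvd_of_pow_eq_one h3
  have h5 := Nat.le_of_dvd hmpos h4
  omega

/-! ### the action of `G` by conjugation on the odd-degree members of the principal block -/

open Cfsg.Agent.Blocks.Covering in
theorem conjIrr_mem_principalBlock {M : Ideal AlgInt} (N : Subgroup G) [N.Normal] (g : G)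
    {θ : IrrCharacter N} (hθ : θ ∈ principalBlock M N) : conjIrr N g θ ∈ principalBlock M N := by
  have h1 := sameBlock_conjIrr N (M := M) g
    (θ := ⟨fun _ => 1, Cfsg.Agent.Blocks.Basic.isIrrCharacter_one⟩) (ψ := θ) hθ
  exact h1

open Cfsg.Agent.Blocks.Covering in
/-- The conjugation action. -/
noncomputable def conjB (M : Ideal AlgInt) (N : Subgroup G) [N.Normal] (g : G) (θ : OddB M N) :
    OddB M N :=
  ⟨conjIrr N g θ.1, conjIrr_mem_principalBlock N g θ.2.1, by
    have h1 := θ.2.2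
    unfold charDegree at h1 ⊢
    rwa [conjIrr_at_one]⟩

open Cfsg.Agent.Blocks.Covering in
theorem conjB_coe (M : Ideal AlgInt) (N : Subgroup G) [N.Normal] (g : G) (θ : OddB M N) :
    (conjB M N g θ).1 = conjIrr N g θ.1 := rfl

/-- The conjugation action of a subgroup. -/
@[reducible] noncomputable def conjAct (M : Ideal AlgInt) (N : Subgroup G) [N.Normal]
    (P : Subgroup G) : MulAction P (OddB M N) where
  smul x θ := conjB M N (x : G)⁻¹ θ
  one_smul θ := Subtype.ext (by
    show Cfsg.Agent.Blocks.Covering.conjIrr N (1 : G)⁻¹ θ.1 = θ.1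
    rw [inv_one, Cfsg.Agent.Blocks.Covering.conjIrr_one])
  mul_smul x y θ := Subtype.ext (by
    show Cfsg.Agent.Blocks.Covering.conjIrr N ((x * y : P) : G)⁻¹ θ.1 =
      Cfsg.Agent.Blocks.Covering.conjIrr N (x : G)⁻¹
        (Cfsg.Agent.Blocks.Covering.conjIrr N (y : G)⁻¹ θ.1)
    rw [Cfsg.Agent.Blocks.Covering.conjIrr_conjIrr, Subgroup.coe_mul, mul_inv_rev])

/-- The `G`-invariant `sig`-fixed odd-degree members of the principal 2-block of `N`. -/
abbrev InvB (M : Ideal AlgInt) (N : Subgroup G) [N.Normal] (k : ℕ) : Type u :=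
  {θ : OddB M N // (∀ g : G, Cfsg.Agent.Blocks.Covering.conjIrr N g θ.1 = θ.1) ∧
    ∀ x : N, (θ.1 : N → ℂ) (x ^ k) = (θ.1 : N → ℂ) x}

theorem conjIrr_of_mem (N : Subgroup G) [N.Normal] (θ : IrrCharacter N) {g : G} (hg : g ∈ N) :
    Cfsg.Agent.Blocks.Covering.conjIrr N g θ = θ := by
  apply Subtype.ext
  funext x
  rw [Cfsg.Agent.Blocks.Covering.conjIrr_apply]
  have h1 : MulAut.conjNormal g x = (⟨g, hg⟩ : N) * x * (⟨g, hg⟩ : N)⁻¹ := by
    ext
    simp
  rw [h1, Cfsg.Agent.Blocks.Basic.irr_conj θ.2]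

/-- Invariance under a Sylow 2-subgroup and under `N` (of 2-power index) is invariance. -/
theorem inv_of_sylow (N : Subgroup G) [N.Normal] (P : Subgroup G) (hNP : N ⊔ P = ⊤)
    (θ : IrrCharacter N)
    (hP : ∀ x ∈ P, Cfsg.Agent.Blocks.Covering.conjIrr N x θ = θ) (g : G) :
    Cfsg.Agent.Blocks.Covering.conjIrr N g θ = θ := by
  let S : Subgroup G :=
    { carrier := {g | Cfsg.Agent.Blocks.Covering.conjIrr N g θ = θ}
      one_mem' := Cfsg.Agent.Blocks.Covering.conjIrr_one N θ
      mul_mem' := by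
        intro a b ha hb
        show Cfsg.Agent.Blocks.Covering.conjIrr N (a * b) θ = θ
        rw [← Cfsg.Agent.Blocks.Covering.conjIrr_conjIrr, show
          Cfsg.Agent.Blocks.Covering.conjIrr N a θ = θ from ha]
        exact hb
      inv_mem' := by
        intro a ha
        show Cfsg.Agent.Blocks.Covering.conjIrr N a⁻¹ θ = θ
        have h1 : Cfsg.Agent.Blocks.Covering.conjIrr N a θ = θ := ha
        calc Cfsg.Agent.Blocks.Covering.conjIrr N a⁻¹ θ
            = Cfsg.Agent.Blocks.Covering.conjIrr N a⁻¹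
                (Cfsg.Agent.Blocks.Covering.conjIrr N a θ) := by rw [h1]
          _ = θ := by
            rw [Cfsg.Agent.Blocks.Covering.conjIrr_conjIrr, mul_inv_cancel,
              Cfsg.Agent.Blocks.Covering.conjIrr_one] }
  have hS : (⊤ : Subgroup G) ≤ S := by
    rw [← hNP, sup_le_iff]
    exact ⟨fun x hx => conjIrr_of_mem N θ hx, fun x hx => hP x hx⟩
  exact hS (Subgroup.mem_top g)

theorem sig_conjIrr [Finite G] (N : Subgroup G) [N.Normal] (h : Cube N k) (g : G)
    (θ : IrrCharacter N) :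
    sig h (Cfsg.Agent.Blocks.Covering.conjIrr N g θ) =
      Cfsg.Agent.Blocks.Covering.conjIrr N g (sig h θ) := by
  apply Subtype.ext
  funext x
  rw [sig_apply, Cfsg.Agent.Blocks.Covering.conjIrr_apply,
    Cfsg.Agent.Blocks.Covering.conjIrr_apply, sig_apply, map_pow]

/-- The number of invariant fixed odd-degree members of the principal 2-block of a normal
subgroup of even order and 2-power index is even. -/
theorem even_card_inv {M : Ideal AlgInt} (hM : IsPModular 2 M) [Finite G] (h : Cube G k)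
    (N : Subgroup G) [N.Normal] (P : Sylow 2 G) (hNP : N ⊔ (P : Subgroup G) = ⊤)
    (hev : Even (Nat.card N)) : Even (Nat.card (InvB M N k)) := by
  classical
  have := fact_two
  have hN : Cube N k := h.subgroup N
  let act := conjAct M N (P : Subgroup G)
  have h1 := P.isPGroup'.card_modEq_card_fixedPoints (OddB M N)
  -- the cubing map on the fixed points
  have hcomm : ∀ (x : P) (θ : OddB M N), x • sigB hN M θ = sigB hN M (x • θ) := by
    intro x θ
    apply Subtype.ext
    show Cfsg.Agent.Blocks.Covering.conjIrr N (x : G)⁻¹ (sig hN θ.1) =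
      sig hN (Cfsg.Agent.Blocks.Covering.conjIrr N (x : G)⁻¹ θ.1)
    rw [sig_conjIrr]
  let s : MulAction.fixedPoints P (OddB M N) → MulAction.fixedPoints P (OddB M N) :=
    fun θ => ⟨sigB hN M θ.1, fun x => by rw [hcomm, θ.2 x]⟩
  have hs : ∀ (m : ℕ) (θ : MulAction.fixedPoints P (OddB M N)),
      ((s^[m] θ : MulAction.fixedPoints P (OddB M N)) : OddB M N) = (sigB hN M)^[m] θ.1 := by
    intro m
    induction m with
    | zero => intro θ; rfl
    | succ m ih =>
      intro θ
      rw [Function.iterate_succ_apply, Function.iterate_succ_apply, ih]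
  obtain ⟨n, hn⟩ := exists_sigB_iter hN M
  have h2 := card_fixed_perm s n (fun θ => Subtype.ext (by rw [hs, hn]))
  have h3 := even_card_oddB (M := M) (G := N) hM hev
  have h4 : Nat.card {θ : MulAction.fixedPoints P (OddB M N) // s θ = θ} =
      Nat.card (InvB M N k) := by
    refine Nat.card_congr ⟨fun θ => ⟨θ.1.1, ?_, ?_⟩, fun θ => ⟨⟨θ.1, ?_⟩, ?_⟩, fun _ => rfl,
      fun _ => rfl⟩
    · refine inv_of_sylow N (P : Subgroup G) hNP θ.1.1.1 ?_
      intro x hx
      have h5 := θ.1.2 (⟨x, hx⟩⁻¹ : P)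
      have h6 := congrArg Subtype.val h5
      have h7 : Cfsg.Agent.Blocks.Covering.conjIrr N ((⟨x, hx⟩⁻¹ : P) : G)⁻¹ θ.1.1.1 =
        θ.1.1.1 := h6
      rwa [Subgroup.coe_inv, inv_inv] at h7
    · exact (sigB_eq_iff hN θ.1.1).1 (congrArg Subtype.val θ.2)
    · intro x
      apply Subtype.ext
      exact θ.2.1 (x : G)⁻¹
    · apply Subtype.ext
      exact (sigB_eq_iff hN θ.1).2 θ.2.2
  rw [even_iff_two_dvd] at h3 ⊢
  rw [← h4]
  exact (Nat.ModEq.dvd_iff h2 (dvd_refl 2)).1 ((Nat.ModEq.dvd_iff h1 (dvd_refl 2)).1 h3)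

/-! ### the canonical extension -/

theorem relIndex_dvd_index_right [Finite G] (Q C : Subgroup G) [C.Normal] :
    Q.relIndex C ∣ Q.index := by
  have key : ∀ A B : Subgroup G, A ≤ B → Nat.card A * A.relIndex B = Nat.card B := by
    intro A B hAB
    have := Subgroup.card_mul_index (A.subgroupOf B)
    rwa [Nat.card_congr (Subgroup.subgroupOfEquivOfLe hAB).toEquiv] at this
  have h1 := key C (Q ⊔ C) le_sup_right
  rw [Subgroup.relIndex_sup_right] at h1
  have h2 := key (Q ⊓ C) Q inf_le_left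
  rw [Subgroup.inf_relIndex_left] at h2
  have h3 := key (Q ⊓ C) C inf_le_right
  rw [Subgroup.inf_relIndex_right] at h3
  have h4 := key Q (Q ⊔ C) le_sup_left
  have h5 : Q.relIndex (Q ⊔ C) = Q.relIndex C := by
    have hpos : 0 < Nat.card Q := Nat.card_pos
    apply Nat.eq_of_mul_eq_mul_left hpos
    rw [h4, ← h1, ← h3, ← h2]
    ring
  rw [← h5]
  exact Subgroup.relIndex_dvd_index_of_le le_sup_left

/-- An extension of a member of the principal block of a normal subgroup of 2-power index lies in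
the principal block. -/
theorem mem_principalBlock_of_extends {M : Ideal AlgInt} (hM : IsPModular 2 M) [Finite G]
    (N : Subgroup G) [N.Normal] (hidx : ∃ j : ℕ, N.index = 2 ^ j) {θ : IrrCharacter N}
    (hθ : θ ∈ principalBlock M N) {χ : IrrCharacter G}
    (hχ : ∀ n : N, (χ : G → ℂ) n = (θ : N → ℂ) n) : χ ∈ principalBlock M G := by
  have := fact_two
  have hMp : M.IsPrime := hM.2.1.isPrime
  have := Fintype.ofFinite G
  refine Cfsg.Agent.Blocks.PRegular.sameBlock_of_isPRegular hM
    Cfsg.Agent.Blocks.Basic.isIrrCharacter_one χ.2 ?_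
  intro g hg
  -- `g` lies in `N`
  have hgN : g ∈ N := by
    obtain ⟨j, hj⟩ := hidx
    have h1 : (QuotientGroup.mk g : G ⧸ N) = 1 := by
      rw [← orderOf_eq_one_iff]
      have h2 : orderOf (QuotientGroup.mk g : G ⧸ N) ∣ 2 ^ j := by
        rw [← hj]
        exact orderOf_dvd_natCard _
      have h3 : orderOf (QuotientGroup.mk g : G ⧸ N) ∣ orderOf g :=
        orderOf_map_dvd (QuotientGroup.mk' N) g
      have h4 : Nat.Coprime (2 ^ j) (orderOf g) :=
        Nat.Coprime.pow_left _ ((Nat.Prime.coprime_iff_not_dvd Nat.prime_two).2 hg)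
      exact Nat.eq_one_of_dvd_coprimes h4 h2 h3
    exact (QuotientGroup.eq_one_iff g).1 h1
  have h1 := hθ ⟨g, hgN⟩
  -- the class sizes
  have hidx2 : (Subgroup.centralizer ({(⟨g, hgN⟩ : N)} : Set N)).index ∣
      (Subgroup.centralizer ({g} : Set G)).index := by
    have e1 : (Subgroup.centralizer ({(⟨g, hgN⟩ : N)} : Set N)) =
        (Subgroup.centralizer ({g} : Set G)).subgroupOf N := by
      ext x
      rw [Subgroup.mem_subgroupOf, Subgroup.mem_centralizer_singleton_iff,
        Subgroup.mem_centralizer_singleton_iff, Subtype.ext_iff]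
      rfl
    rw [e1]
    exact relIndex_dvd_index_right (Subgroup.centralizer ({g} : Set G)) N
  obtain ⟨c, hc⟩ := hidx2
  have hχ1 : (χ : G → ℂ) 1 = (θ : N → ℂ) 1 := hχ 1
  have e2 : centralChar (fun _ : G => (1 : ℂ)) g - centralChar (χ : G → ℂ) g =
      (c : ℂ) * (centralChar (fun _ : N => (1 : ℂ)) ⟨g, hgN⟩ -
        centralChar (θ : N → ℂ) ⟨g, hgN⟩) := by
    unfold centralChar
    rw [hc, hχ1, ← hχ ⟨g, hgN⟩]
    push_cast
    ring
  rw [e2]
  exact Cfsg.Agent.Blocks.Local.memLocalIdeal_mul_left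
    (Cfsg.Agent.Blocks.Local.memLocalRing_natCast c) h1

/-- The canonical extension is in the principal block, has odd degree and is fixed. -/
theorem exists_canonical {M : Ideal AlgInt} (hM : IsPModular 2 M) [Finite G] (h : Cube G k)
    (A : Subgroup G) [hA : A.Normal] (hAr : A = pResidual 2 G) (θ : InvB M A k) :
    ∃ χ : IrrCharacter G, χ ∈ principalBlock M G ∧ Odd (charDegree (χ : G → ℂ)) ∧
      (∀ g : G, (χ : G → ℂ) (g ^ k) = (χ : G → ℂ) g) ∧
      ∀ n : A, (χ : G → ℂ) n = (θ.1.1 : A → ℂ) n := by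
  have := fact_two
  have hidx : ∃ j : ℕ, A.index = 2 ^ j := by
    rw [hAr]
    exact Cfsg.Agent.Transfer.Residual.exists_index_pResidual_eq_pow 2
  have hodd : Odd (detOrder (θ.1.1 : A → ℂ)) := by
    subst hAr
    exact odd_detOrder θ.1.1
  have hinv : ∀ (g : G) (n : A), (θ.1.1 : A → ℂ) ⟨g * n * g⁻¹, hA.conj_mem (n : G) n.2 g⟩ =
      (θ.1.1 : A → ℂ) n := by
    intro g n
    have h1 := congrArg (fun ψ : IrrCharacter A => (ψ : A → ℂ) n) (θ.2.1 g)
    exact h1
  have hcop : Nat.Coprime A.index (detOrder (θ.1.1 : A → ℂ) * charDegree (θ.1.1 : A → ℂ)) := by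
    obtain ⟨j, hj⟩ := hidx
    rw [hj]
    exact Nat.Coprime.pow_left _ (Nat.coprime_two_left.2 (hodd.mul θ.1.2.2))
  obtain ⟨χ, ⟨hχ, hres, hdet⟩, huniq⟩ := Cfsg.Agent.S0867.result A (θ.1.1 : A → ℂ) θ.1.1.2 hinv
    (charDegree (θ.1.1 : A → ℂ)) (Cfsg.Agent.Blocks.Basic.irr_one_eq_charDegree θ.1.1.2) hcop
  have hcopχ : Nat.Coprime A.index (detOrder χ) := by
    rw [hdet]
    exact Nat.Coprime.coprime_dvd_right (dvd_mul_right _ _) hcop
  refine ⟨⟨χ, hχ⟩, ?_, ?_, ?_, hres⟩
  · exact mem_principalBlock_of_extends hM A hidx θ.1.2.1 hres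
  · have h1 := θ.1.2.2
    have h2 : χ 1 = (θ.1.1 : A → ℂ) 1 := hres 1
    unfold charDegree at h1 ⊢
    show Odd ⌊(χ 1).re⌋₊
    rwa [h2]
  · have h1 := huniq (sig h ⟨χ, hχ⟩ : G → ℂ) (sig h ⟨χ, hχ⟩).2 (fun n => by
      rw [sig_apply]
      have h2 : ((n : G)) ^ k = ((n ^ k : A) : G) := rfl
      rw [h2]
      show χ _ = _
      rw [hres, θ.2.2]) (coprime_detOrder_sig h ⟨χ, hχ⟩ hcopχ)
    intro g
    exact congrFun h1 g

/-! ### complex conjugation -/

/-- The complex conjugate. -/
noncomputable def conjI [Finite G] (χ : IrrCharacter G) : IrrCharacter G :=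
  ⟨fun g => conj ((χ : G → ℂ) g), Cfsg.Agent.Characters.Core.isIrr_conj χ.2⟩

theorem conjI_apply [Finite G] (χ : IrrCharacter G) (g : G) :
    (conjI χ : G → ℂ) g = conj ((χ : G → ℂ) g) := rfl

theorem conjI_apply' [Finite G] (χ : IrrCharacter G) (g : G) :
    (conjI χ : G → ℂ) g = (χ : G → ℂ) g⁻¹ := by
  rw [conjI_apply, Cfsg.Agent.Characters.Core.isCharacter_apply_inv
    (Cfsg.Agent.Blocks.Basic.irr_isCharacter χ.2)]

theorem conjI_mem_principalBlock [Finite G] {M : Ideal AlgInt} {χ : IrrCharacter G}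
    (hχ : χ ∈ principalBlock M G) : conjI χ ∈ principalBlock M G := by
  intro g
  have h1 := hχ g⁻¹
  have h2 : Subgroup.centralizer ({g⁻¹} : Set G) = Subgroup.centralizer ({g} : Set G) := by
    ext x
    rw [Subgroup.mem_centralizer_singleton_iff, Subgroup.mem_centralizer_singleton_iff]
    constructor
    · intro hx
      have h3 : Commute x g⁻¹ := hx
      exact (Commute.inv_right_iff.1 h3).eq
    · intro hx
      have h3 : Commute x g := hx
      exact h3.inv_right.eq
  have h3 : centralChar (fun _ : G => (1 : ℂ)) g⁻¹ - centralChar (χ : G → ℂ) g⁻¹ =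
      centralChar (fun _ : G => (1 : ℂ)) g - centralChar (conjI χ : G → ℂ) g := by
    unfold centralChar
    rw [h2, conjI_apply', conjI_apply', inv_one]
  rwa [h3] at h1

theorem charDegree_conjI [Finite G] (χ : IrrCharacter G) :
    charDegree (conjI χ : G → ℂ) = charDegree (χ : G → ℂ) := by
  unfold charDegree
  rw [conjI_apply', inv_one]

end Cfsg.Agent.H618.Resid
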