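import Mathlib

/-!
# Groups of automorphisms of order three and nine of an elementary abelian group of order `16`

* `exists_three`: `F` of order three with four fixed points;
* `exists_nine`: `F` of order nine.
-/

set_option autoImplicit false
set_option linter.unusedSectionVars false

namespace Cfsg.Agent.H618.AutNine

variable {P : Type*} [Group P]

theorem comm_of_el (hel : ∀ x : P, x * x = 1) (x y : P) : x * y = y * x := by
  have h1 := hel (x * y)
  have h2 : (x * y) * (y * x) = 1 := by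
    calc (x * y) * (y * x) = x * (y * y) * x := by group
      _ = 1 := by rw [hel y, mul_one, hel x]
  exact mul_left_cancel (h1.trans h2.symm)

theorem inv_of_el (hel : ∀ x : P, x * x = 1) (x : P) : x⁻¹ = x :=
  inv_eq_of_mul_eq_one_left (hel x)

/-- The elements of a subgroup of order four. -/
theorem mem_four [Finite P] (hel : ∀ x : P, x * x = 1) {V : Subgroup P} (hV : Nat.card V = 4)
    {u v : P} (hu : u ∈ V) (hv : v ∈ V) (hu1 : u ≠ 1) (hv1 : v ≠ 1) (huv : u ≠ v) {w : P}
    (hw : w ∈ V) : w = 1 ∨ w = u ∨ w = v ∨ w = u * v := by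
  classical
  by_contra h
  push Not at h
  obtain ⟨w1, wu, wv, wuv⟩ := h
  have e1 : u * v ≠ 1 := fun h => huv (by rw [mul_eq_one_iff_eq_inv.1 h, inv_of_el hel])
  have e2 : u * v ≠ u := fun h => hv1 (mul_eq_left.1 h)
  have e3 : u * v ≠ v := fun h => hu1 (mul_eq_right.1 h)
  have hcard : ({1, u, v, u * v, w} : Finset P).card = 5 := by
    rw [Finset.card_insert_of_notMem, Finset.card_insert_of_notMem, Finset.card_insert_of_notMem,
      Finset.card_insert_of_notMem, Finset.card_singleton]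
    · simp only [Finset.mem_singleton]
      exact wuv.symm
    · simp only [Finset.mem_insert, Finset.mem_singleton, not_or]
      exact ⟨e3.symm, wv.symm⟩
    · simp only [Finset.mem_insert, Finset.mem_singleton, not_or]
      exact ⟨huv, e2.symm, wu.symm⟩
    · simp only [Finset.mem_insert, Finset.mem_singleton, not_or]
      exact ⟨hu1.symm, hv1.symm, e1.symm, w1.symm⟩
  have hsub : ((({1, u, v, u * v, w} : Finset P) : Finset P) : Set P) ⊆ (V : Set P) := by
    intro x hx
    simp only [Finset.coe_insert, Finset.coe_singleton, Set.mem_insert_iff,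
      Set.mem_singleton_iff] at hx
    rcases hx with rfl | rfl | rfl | rfl | rfl
    · exact V.one_mem
    · exact hu
    · exact hv
    · exact V.mul_mem hu hv
    · exact hw
  have h1 := Set.ncard_le_ncard hsub (Set.toFinite _)
  rw [Set.ncard_coe_finset, hcard, ← Nat.card_coe_set_eq] at h1
  change 5 ≤ Nat.card V at h1
  omega

/-- The fixed points of an automorphism. -/
def fixS (α : MulAut P) : Subgroup P where
  carrier := {v | α v = v}
  one_mem' := map_one α
  mul_mem' {x y} hx hy := by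
    change α (x * y) = x * y
    rw [map_mul, show α x = x from hx, show α y = y from hy]
  inv_mem' {x} hx := by
    change α x⁻¹ = x⁻¹
    rw [map_inv, show α x = x from hx]

theorem mem_fixS {α : MulAut P} {v : P} : v ∈ fixS α ↔ α v = v := Iff.rfl

theorem card_fixS [Finite P] {α : MulAut P} (h3 : α ^ 3 = 1) :
    Nat.card P ≡ Nat.card (fixS α) [MOD 3] := by
  have hF : Fact (Nat.Prime 3) := ⟨Nat.prime_three⟩
  have hp : IsPGroup 3 (Subgroup.zpowers α) := by
    rintro ⟨_, n, rfl⟩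
    refine ⟨1, Subtype.ext ?_⟩
    change (α ^ n) ^ 3 ^ 1 = 1
    rw [pow_one, ← zpow_natCast, ← zpow_mul, mul_comm, zpow_mul]
    have : α ^ ((3 : ℕ) : ℤ) = 1 := by rw [zpow_natCast, h3]
    rw [this, one_zpow]
  have h1 := hp.card_modEq_card_fixedPoints P
  have h2 : Nat.card (MulAction.fixedPoints (Subgroup.zpowers α) P) = Nat.card (fixS α) := by
    refine Nat.card_congr (Equiv.subtypeEquivRight fun v => ?_)
    rw [MulAction.mem_fixedPoints]
    constructor
    · intro h
      exact h ⟨α, Subgroup.mem_zpowers α⟩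
    · rintro h ⟨_, n, rfl⟩
      have hfin : v ∈ fixS α := h
      change (α ^ n) v = v
      have h4 : α ∈ MulAction.stabilizer (MulAut P) v := h
      exact (MulAction.stabilizer (MulAut P) v).zpow_mem h4 n
  rwa [h2] at h1

theorem eq_of_dvd_sixteen {n : ℕ} (hn : n ∣ 16) (hm : 16 ≡ n [MOD 3]) :
    n = 1 ∨ n = 4 ∨ n = 16 := by
  have h1 : n ≤ 16 := Nat.le_of_dvd (by norm_num) hn
  unfold Nat.ModEq at hm
  interval_cases n <;> omega

section three

variable [Finite P] (hel : ∀ x : P, x * x = 1) (hcard : Nat.card P = 16)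
  {α : MulAut P} (h3 : α ^ 3 = 1) (h4 : Nat.card (fixS α) = 4)

include hel

/-- The norm. -/
def nm (α : MulAut P) (v : P) : P := v * α v * α (α v)

/-- The norm as a homomorphism. -/
def nmHom (α : MulAut P) : P →* P where
  toFun := nm α
  map_one' := by simp [nm]
  map_mul' x y := by
    have hc := comm_of_el hel
    simp only [nm, map_mul]
    calc x * y * (α x * α y) * (α (α x) * α (α y))
        = x * (y * α x) * (α y * α (α x)) * α (α y) := by group
      _ = x * (α x * y) * (α (α x) * α y) * α (α y) := by rw [hc y (α x), hc (α y) (α (α x))]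
      _ = (x * α x) * (y * α (α x)) * (α y * α (α y)) := by group
      _ = (x * α x) * (α (α x) * y) * (α y * α (α y)) := by rw [hc y (α (α x))]
      _ = _ := by group

/-- The kernel of the norm. -/
def kerS (α : MulAut P) : Subgroup P := (nmHom hel α).ker

theorem mem_kerS {v : P} : v ∈ kerS hel α ↔ nm α v = 1 := MonoidHom.mem_ker

omit hel in
theorem nm_of_mem {v : P} (hel : ∀ x : P, x * x = 1) (hv : v ∈ fixS α) : nm α v = v := by
  have h : α v = v := hv
  rw [nm, h, h, hel, one_mul]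

include h3

omit hel in
theorem aaa (v : P) : α (α (α v)) = v := by
  have h5 : (α ^ 3) v = v := by rw [h3]; rfl
  exact h5

theorem nm_mem (v : P) : nm α v ∈ fixS α := by
  have hc := comm_of_el hel
  rw [mem_fixS, nm, map_mul, map_mul, aaa h3]
  calc α v * α (α v) * v = v * (α v * α (α v)) := hc _ _
    _ = _ := by group

theorem disj {v : P} (h1 : v ∈ fixS α) (h2 : v ∈ kerS hel α) : v = 1 := by
  rw [mem_kerS, nm_of_mem hel h1] at h2
  exact h2

theorem exists_mul (v : P) : ∃ x ∈ fixS α, ∃ y ∈ kerS hel α, v = x * y := by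
  refine ⟨nm α v, nm_mem hel h3 v, (nm α v)⁻¹ * v, ?_, by group⟩
  rw [mem_kerS]
  have h5 : nm α ((nm α v)⁻¹ * v) = (nm α (nm α v))⁻¹ * nm α v := by
    have h6 := map_mul (nmHom hel α) (nm α v)⁻¹ v
    rw [map_inv] at h6
    exact h6
  rw [h5, nm_of_mem hel (nm_mem hel h3 v), inv_mul_cancel]

include hcard h4

theorem card_kerS : Nat.card (kerS hel α) = 4 := by
  have h5 : (nmHom hel α).range = fixS α := by
    ext v
    constructor
    · rintro ⟨x, rfl⟩
      exact nm_mem hel h3 x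
    · intro hv
      exact ⟨v, nm_of_mem hel hv⟩
  have h6 := Subgroup.card_mul_index (nmHom hel α).ker
  rw [Subgroup.index_ker, h5, h4, hcard] at h6
  change Nat.card (nmHom hel α).ker = 4
  omega

end three

section stable

variable [Finite P] (hel : ∀ x : P, x * x = 1)

include hel

/-- An automorphism of order dividing nine fixing a nontrivial element of a subgroup of order
four fixes all its elements. -/
theorem fix_of_fix {V : Subgroup P} (hV : Nat.card V = 4) {β : MulAut P} (h9 : β ^ 9 = 1)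
    (hβ : ∀ v ∈ V, β v ∈ V) {u : P} (hu : u ∈ V) (hu1 : u ≠ 1) (hfu : β u = u) {v : P}
    (hv : v ∈ V) : β v = v := by
  by_cases hv1 : v = 1
  · rw [hv1, map_one]
  by_cases huv : u = v
  · rw [← huv, hfu]
  rcases mem_four hel hV hu hv hu1 hv1 huv (hβ v hv) with h | h | h | h
  · exact absurd (by rw [← map_one β] at h; exact β.injective h) hv1
  · exact absurd (by rw [← hfu] at h; exact (β.injective h).symm) huv
  · exact h
  · -- `β ^ 2` fixes `v`
    have h2 : β (β v) = v := by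
      rw [h, map_mul, hfu, h, ← mul_assoc, hel, one_mul]
    have h3 : ∀ n : ℕ, (β ^ (2 * n)) v = v := by
      intro n
      induction n with
      | zero => simp
      | succ n ih =>
        rw [Nat.mul_succ, pow_add, MulAut.mul_apply]
        have : (β ^ 2) v = v := h2
        rw [this, ih]
    have h4 := h3 5
    have h5 : β ^ (2 * 5) = β := by
      rw [show 2 * 5 = 9 + 1 from rfl, pow_add, h9, one_mul, pow_one]
    rwa [h5] at h4

end stable

section orbit

variable [Finite P] {F : Subgroup (MulAut P)}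

theorem card_orbit_mul (v : P) :
    Nat.card (MulAction.orbit F v) * Nat.card (MulAction.stabilizer F v) = Nat.card F := by
  rw [← Nat.card_prod]
  exact Nat.card_congr (MulAction.orbitProdStabilizerEquivGroup F v)

theorem mem_orbit {u v : P} : v ∈ MulAction.orbit F u ↔ ∃ α ∈ F, α u = v := by
  constructor
  · rintro ⟨⟨α, hα⟩, h⟩
    exact ⟨α, hα, h⟩
  · rintro ⟨α, hα, h⟩
    exact ⟨⟨α, hα⟩, h⟩

/-- The orbit of a nontrivial element of a stable subgroup of order four. -/
theorem card_orbit_le {V : Subgroup P} (hV : Nat.card V = 4) (hs : ∀ β ∈ F, ∀ v ∈ V, β v ∈ V)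
    {u : P} (hu : u ∈ V) (hu1 : u ≠ 1) : Nat.card (MulAction.orbit F u) ≤ 3 := by
  have h1 : insert (1 : P) (MulAction.orbit F u) ⊆ (V : Set P) := by
    rintro x (rfl | hx)
    · exact V.one_mem
    · obtain ⟨β, hβ, rfl⟩ := mem_orbit.1 hx
      exact hs β hβ u hu
  have h2 : (1 : P) ∉ MulAction.orbit F u := by
    intro h
    obtain ⟨β, -, hβ⟩ := mem_orbit.1 h
    rw [← map_one β] at hβ
    exact hu1 (β.injective hβ)
  have h3 := Set.ncard_le_ncard h1 (Set.toFinite _)
  rw [Set.ncard_insert_of_notMem h2 (Set.toFinite _), ← Nat.card_coe_set_eq,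
    ← Nat.card_coe_set_eq] at h3
  change _ ≤ Nat.card V at h3
  rw [hV] at h3
  omega

/-- A stable subgroup of order four without fixed points is an orbit and `1`. -/
theorem mem_orbit_of_card {V : Subgroup P} (hV : Nat.card V = 4)
    (hs : ∀ β ∈ F, ∀ v ∈ V, β v ∈ V) {u : P} (hu : u ∈ V) (hu1 : u ≠ 1)
    (h3 : Nat.card (MulAction.orbit F u) = 3) {v : P} (hv : v ∈ V) (hv1 : v ≠ 1) :
    v ∈ MulAction.orbit F u := by
  have h1 : insert (1 : P) (MulAction.orbit F u) ⊆ (V : Set P) := by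
    rintro x (rfl | hx)
    · exact V.one_mem
    · obtain ⟨β, hβ, rfl⟩ := mem_orbit.1 hx
      exact hs β hβ u hu
  have h2 : (1 : P) ∉ MulAction.orbit F u := by
    intro h
    obtain ⟨β, -, hβ⟩ := mem_orbit.1 h
    rw [← map_one β] at hβ
    exact hu1 (β.injective hβ)
  have h4 : insert (1 : P) (MulAction.orbit F u) = (V : Set P) := by
    refine Set.eq_of_subset_of_ncard_le h1 ?_ (Set.toFinite _)
    rw [Set.ncard_insert_of_notMem h2 (Set.toFinite _), ← Nat.card_coe_set_eq,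
      ← Nat.card_coe_set_eq, h3]
    change Nat.card V ≤ _
    rw [hV]
  have h5 : v ∈ insert (1 : P) (MulAction.orbit F u) := by
    rw [h4]
    exact hv
  exact h5.resolve_left hv1

end orbit

/-- **A group of order three with four fixed points.** -/
theorem exists_three [Finite P] (hel : ∀ x : P, x * x = 1) (hcard : Nat.card P = 16)
    {F : Subgroup (MulAut P)} (hF : Nat.card F = 3)
    (hfix : Nat.card {v : P // ∀ β ∈ F, β v = v} = 4) :
    ∃ (V : Subgroup P) (v₀ : P), (∀ β ∈ F, ∀ v ∈ V, β v ∈ V) ∧ V.index = 4 ∧ v₀ ∈ V ∧ v₀ ≠ 1 ∧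
      (∀ v ∈ V, v ≠ 1 → v ∈ MulAction.orbit F v₀) ∧ ∃ β ∈ F, β v₀ ≠ v₀ := by
  have hp : Fact (Nat.Prime 3) := ⟨Nat.prime_three⟩
  have hcyc : IsCyclic F := isCyclic_of_prime_card hF
  obtain ⟨⟨τ, hτF⟩, hτ⟩ := hcyc.exists_generator
  have h3 : τ ^ 3 = 1 := by
    have h1 : (⟨τ, hτF⟩ : F) ^ Nat.card F = 1 := pow_card_eq_one'
    rw [hF] at h1
    exact congrArg Subtype.val h1
  have hpow : ∀ β ∈ F, ∃ n : ℤ, τ ^ n = β := by
    intro β hβ
    obtain ⟨n, hn⟩ := hτ ⟨β, hβ⟩
    exact ⟨n, congrArg Subtype.val hn⟩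
  have hfx : ∀ v : P, (∀ β ∈ F, β v = v) ↔ v ∈ fixS τ := by
    intro v
    refine ⟨fun h => h τ hτF, fun h β hβ => ?_⟩
    obtain ⟨n, rfl⟩ := hpow β hβ
    have h4 : τ ∈ MulAction.stabilizer (MulAut P) v := h
    exact (MulAction.stabilizer (MulAut P) v).zpow_mem h4 n
  have h4 : Nat.card (fixS τ) = 4 := by
    rw [← hfix]
    exact (Nat.card_congr (Equiv.subtypeEquivRight hfx)).symm
  have hker := card_kerS hel hcard h3 h4
  have hst : ∀ β ∈ F, ∀ v ∈ kerS hel τ, β v ∈ kerS hel τ := by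
    intro β hβ v hv
    obtain ⟨n, rfl⟩ := hpow β hβ
    have hτs : ∀ v ∈ kerS hel τ, τ v ∈ kerS hel τ := by
      intro v hv
      rw [mem_kerS] at hv ⊢
      have h5 : nm τ (τ v) = τ (nm τ v) := by
        simp only [nm, map_mul]
      rw [h5, hv, map_one]
    have hnat : ∀ (n : ℕ), ∀ v ∈ kerS hel τ, (τ ^ n) v ∈ kerS hel τ := by
      intro n
      induction n with
      | zero => intro v hv; exact hv
      | succ n ih =>
        intro v hv
        rw [pow_succ, MulAut.mul_apply]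
        exact ih _ (hτs v hv)
    have h6 : τ ^ n = τ ^ (n % 3).toNat := by
      have h7 : (((n % 3).toNat : ℕ) : ℤ) = n % 3 := Int.toNat_of_nonneg (Int.emod_nonneg n (by norm_num))
      rw [← zpow_natCast, h7]
      conv_lhs => rw [← Int.mul_ediv_add_emod n 3, zpow_add, zpow_mul]
      have h8 : τ ^ (3 : ℤ) = 1 := by
        rw [show (3 : ℤ) = ((3 : ℕ) : ℤ) from rfl, zpow_natCast, h3]
      rw [h8, one_zpow, one_mul]
    rw [h6]
    exact hnat _ v hv
  obtain ⟨v₀, hv₀, hv₀1⟩ : ∃ v₀ ∈ kerS hel τ, v₀ ≠ 1 := by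
    by_contra h
    push Not at h
    have h5 : kerS hel τ = ⊥ := (Subgroup.eq_bot_iff_forall _).2 h
    rw [h5, Subgroup.card_bot] at hker
    norm_num at hker
  have hmoved : τ v₀ ≠ v₀ := fun h => hv₀1 (disj hel h3 h hv₀)
  have h5 := card_orbit_mul (F := F) v₀
  rw [hF] at h5
  have h6 : Nat.card (MulAction.orbit F v₀) = 3 := by
    rcases (Nat.dvd_prime Nat.prime_three).1 (Dvd.intro _ h5) with h | h
    · exfalso
      apply hmoved
      rw [Nat.card_eq_one_iff_unique] at h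
      have h7 := h.1.elim (⟨τ v₀, mem_orbit.2 ⟨τ, hτF, rfl⟩⟩ : MulAction.orbit F v₀)
        ⟨v₀, MulAction.mem_orbit_self v₀⟩
      exact congrArg Subtype.val h7
    · exact h
  refine ⟨kerS hel τ, v₀, hst, ?_, hv₀, hv₀1, fun v hv hv1 =>
    mem_orbit_of_card hker hst hv₀ hv₀1 h6 hv hv1, τ, hτF, hmoved⟩
  have h7 := Subgroup.card_mul_index (kerS hel τ)
  rw [hker, hcard] at h7
  omega

section nine

variable [Finite P] (hel : ∀ x : P, x * x = 1) (hcard : Nat.card P = 16)
  {F : Subgroup (MulAut P)} (hF : Nat.card F = 9)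

/-- A decomposition into two stable subgroups of order four. -/
structure Dec (F : Subgroup (MulAut P)) (V₁ V₂ : Subgroup P) : Prop where
  st₁ : ∀ β ∈ F, ∀ v ∈ V₁, β v ∈ V₁
  st₂ : ∀ β ∈ F, ∀ v ∈ V₂, β v ∈ V₂
  card₁ : Nat.card V₁ = 4
  card₂ : Nat.card V₂ = 4
  disj : ∀ v, v ∈ V₁ → v ∈ V₂ → v = 1
  gen : ∀ v, ∃ x ∈ V₁, ∃ y ∈ V₂, v = x * y

include hF

omit [Finite P] in
theorem pow9 {α : MulAut P} (hα : α ∈ F) : α ^ 9 = 1 := by
  have h1 : (⟨α, hα⟩ : F) ^ Nat.card F = 1 := pow_card_eq_one'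
  rw [hF] at h1
  exact congrArg Subtype.val h1

omit [Finite P] in
theorem commF {α β : MulAut P} (hα : α ∈ F) (hβ : β ∈ F) : α * β = β * α := by
  have hp : Fact (Nat.Prime 3) := ⟨Nat.prime_three⟩
  have h1 := (IsPGroup.isMulCommutative_of_card_eq_prime_sq (p := 3) (G := F)
    (by rw [hF]; norm_num)).is_comm.comm ⟨α, hα⟩ ⟨β, hβ⟩
  exact congrArg Subtype.val h1

include hcard

/-- There is an element of order three with four fixed points. -/
theorem exists_alpha : ∃ α ∈ F, α ^ 3 = 1 ∧ Nat.card (fixS α) = 4 := by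
  have hex : ∃ α ∈ F, α ≠ 1 ∧ ∃ v : P, v ≠ 1 ∧ α v = v := by
    by_contra hno
    push Not at hno
    have horb : ∀ v : P, v ≠ 1 → Nat.card (MulAction.orbit F v) = 9 := by
      intro v hv
      have h1 := card_orbit_mul (F := F) v
      have h2 : Nat.card (MulAction.stabilizer F v) = 1 := by
        rw [Subgroup.card_eq_one, Subgroup.eq_bot_iff_forall]
        rintro ⟨α, hα⟩ h
        by_contra hne
        exact hno α hα (fun h1 => hne (Subtype.ext h1)) v hv h
      rw [h2, mul_one, hF] at h1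
      exact h1
    have : Nontrivial P := by
      rw [← Finite.one_lt_card_iff_nontrivial, hcard]
      norm_num
    obtain ⟨v, hv⟩ := exists_ne (1 : P)
    obtain ⟨w, hw⟩ : ∃ w, w ∉ insert (1 : P) (MulAction.orbit F v) := by
      by_contra h
      push Not at h
      have h1 : insert (1 : P) (MulAction.orbit F v) = Set.univ := Set.eq_univ_of_forall h
      have h2 := Set.ncard_insert_le (1 : P) (MulAction.orbit F v)
      rw [h1, Set.ncard_univ, hcard, ← Nat.card_coe_set_eq, horb v hv] at h2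
      omega
    rw [Set.mem_insert_iff, not_or] at hw
    have hdis : Disjoint (MulAction.orbit F v) (MulAction.orbit F w) := by
      rw [Set.disjoint_left]
      intro x hx hy
      rw [← MulAction.orbit_eq_iff] at hx hy
      apply hw.2
      rw [← hx, hy]
      exact MulAction.mem_orbit_self w
    have h1 := Set.ncard_union_eq hdis (Set.toFinite _) (Set.toFinite _)
    rw [← Nat.card_coe_set_eq (MulAction.orbit F v), ← Nat.card_coe_set_eq (MulAction.orbit F w),
      horb v hv, horb w hw.1] at h1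
    have h2 := Set.ncard_le_ncard (Set.subset_univ (MulAction.orbit F v ∪ MulAction.orbit F w))
      (Set.toFinite _)
    rw [h1, Set.ncard_univ, hcard] at h2
    omega
  obtain ⟨α, hα, hα1, h3, v, hv1, hv⟩ : ∃ α ∈ F, α ≠ 1 ∧ α ^ 3 = 1 ∧ ∃ v : P, v ≠ 1 ∧ α v = v := by
    obtain ⟨α, hα, hα1, v, hv1, hv⟩ := hex
    by_cases h3 : α ^ 3 = 1
    · exact ⟨α, hα, hα1, h3, v, hv1, hv⟩
    · refine ⟨α ^ 3, F.pow_mem hα 3, h3, ?_, v, hv1, ?_⟩
      · rw [← pow_mul]
        exact pow9 hF hα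
      · have h4 : α ∈ MulAction.stabilizer (MulAut P) v := hv
        exact (MulAction.stabilizer (MulAut P) v).pow_mem h4 3
  refine ⟨α, hα, h3, ?_⟩
  have h5 := card_fixS h3
  have h6 := Subgroup.card_subgroup_dvd_card (fixS α)
  rw [hcard] at h5 h6
  rcases eq_of_dvd_sixteen h6 h5 with h | h | h
  · exfalso
    rw [Subgroup.card_eq_one, Subgroup.eq_bot_iff_forall] at h
    exact hv1 (h v hv)
  · exact h
  · exfalso
    have h7 : fixS α = ⊤ := Subgroup.eq_top_of_card_eq _ (by rw [h, hcard])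
    apply hα1
    ext x
    have h8 : x ∈ fixS α := by rw [h7]; exact Subgroup.mem_top x
    exact h8

include hel

theorem exists_dec : ∃ V₁ V₂ : Subgroup P, Dec F V₁ V₂ := by
  obtain ⟨α, hα, h3, h4⟩ := exists_alpha hcard hF
  refine ⟨fixS α, kerS hel α, ?_, ?_, h4, card_kerS hel hcard h3 h4, fun v => disj hel h3,
    exists_mul hel h3⟩
  · intro β hβ v hv
    rw [mem_fixS] at hv ⊢
    rw [← MulAut.mul_apply, commF hF hα hβ, MulAut.mul_apply, hv]
  · intro β hβ v hv
    rw [mem_kerS] at hv ⊢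
    have h5 : ∀ x, α (β x) = β (α x) := fun x => by
      rw [← MulAut.mul_apply, commF hF hα hβ, MulAut.mul_apply]
    have h6 : nm α (β v) = β (nm α v) := by
      simp only [nm, map_mul, h5]
    rw [h6, hv, map_one]

omit hcard

variable {V₁ V₂ : Subgroup P} (hD : Dec F V₁ V₂)

omit hF hel in
theorem Dec.symm (hel : ∀ x : P, x * x = 1) (hD : Dec F V₁ V₂) : Dec F V₂ V₁ :=
  ⟨hD.st₂, hD.st₁, hD.card₂, hD.card₁, fun v h1 h2 => hD.disj v h2 h1, fun v => by
    obtain ⟨x, hx, y, hy, h⟩ := hD.gen v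
    exact ⟨y, hy, x, hx, by rw [h, comm_of_el hel]⟩⟩

include hD

omit hF hel in
theorem Dec.eq_one {β : MulAut P} (h1 : ∀ v ∈ V₁, β v = v) (h2 : ∀ v ∈ V₂, β v = v) : β = 1 := by
  ext v
  obtain ⟨x, hx, y, hy, h⟩ := hD.gen v
  rw [h, map_mul, h1 x hx, h2 y hy]
  rfl

omit hF hel in
theorem Dec.exists₁ : ∃ u ∈ V₁, u ≠ 1 := by
  by_contra h
  push Not at h
  have h5 : V₁ = ⊥ := (Subgroup.eq_bot_iff_forall _).2 h
  have h6 := hD.card₁
  rw [h5, Subgroup.card_bot] at h6
  norm_num at h6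

/-- No nontrivial element of `V₁` is fixed by `F`. -/
theorem Dec.moved {u : P} (hu : u ∈ V₁) (hu1 : u ≠ 1) : ∃ β ∈ F, β u ≠ u := by
  by_contra h
  push Not at h
  have h1 : ∀ β ∈ F, ∀ v ∈ V₁, β v = v := fun β hβ v hv =>
    fix_of_fix hel hD.card₁ (pow9 hF hβ) (hD.st₁ β hβ) hu hu1 (h β hβ) hv
  obtain ⟨w, hw, hw1⟩ := (hD.symm hel).exists₁
  have h2 := card_orbit_le hD.card₂ hD.st₂ hw hw1
  have h3 := card_orbit_mul (F := F) w
  rw [hF] at h3
  have h4 : Nat.card (MulAction.stabilizer F w) ≠ 1 := by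
    intro h4
    rw [h4] at h3
    omega
  apply h4
  rw [Subgroup.card_eq_one, Subgroup.eq_bot_iff_forall]
  rintro ⟨β, hβ⟩ h5
  apply Subtype.ext
  exact hD.eq_one (h1 β hβ) fun v hv =>
    fix_of_fix hel hD.card₂ (pow9 hF hβ) (hD.st₂ β hβ) hw hw1 h5 hv

theorem Dec.card_orbit {u : P} (hu : u ∈ V₁) (hu1 : u ≠ 1) :
    Nat.card (MulAction.orbit F u) = 3 := by
  have h2 := card_orbit_le hD.card₁ hD.st₁ hu hu1
  have h3 := card_orbit_mul (F := F) u
  rw [hF] at h3
  have h4 : Nat.card (MulAction.orbit F u) ≠ 1 := by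
    intro h
    obtain ⟨β, hβ, hβu⟩ := hD.moved hel hF hu hu1
    rw [Nat.card_eq_one_iff_unique] at h
    have h7 := h.1.elim (⟨β u, mem_orbit.2 ⟨β, hβ, rfl⟩⟩ : MulAction.orbit F u)
      ⟨u, MulAction.mem_orbit_self u⟩
    exact hβu (congrArg Subtype.val h7)
  have h5 : Nat.card (MulAction.orbit F u) ∣ 9 := Dvd.intro _ h3
  set n := Nat.card (MulAction.orbit F u) with hn
  interval_cases n <;> omega

theorem Dec.card_stab {u : P} (hu : u ∈ V₁) (hu1 : u ≠ 1) :
    Nat.card (F ⊓ MulAction.stabilizer (MulAut P) u : Subgroup (MulAut P)) = 3 := by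
  have h3 := card_orbit_mul (F := F) u
  rw [hF, hD.card_orbit hel hF hu hu1] at h3
  have h4 : Nat.card (F ⊓ MulAction.stabilizer (MulAut P) u : Subgroup (MulAut P)) =
      Nat.card (MulAction.stabilizer F u) := Nat.card_congr
    { toFun := fun α => ⟨⟨α.1, α.2.1⟩, α.2.2⟩
      invFun := fun α => ⟨α.1.1, α.1.2, α.2⟩
      left_inv := fun _ => rfl
      right_inv := fun _ => rfl }
  omega

theorem Dec.mem_orbit {u : P} (hu : u ∈ V₁) (hu1 : u ≠ 1) {v : P} (hv : v ∈ V₁) (hv1 : v ≠ 1) :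
    v ∈ MulAction.orbit F u :=
  mem_orbit_of_card hD.card₁ hD.st₁ hu hu1 (hD.card_orbit hel hF hu hu1) hv hv1

/-- The fixed points of the stabilizer. -/
theorem Dec.fix_iff {u : P} (hu : u ∈ V₁) (hu1 : u ≠ 1) (v : P) :
    (∀ β ∈ F, β u = u → β v = v) ↔ v ∈ V₁ := by
  constructor
  · intro h
    obtain ⟨x, hx, y, hy, hxy⟩ := hD.gen v
    have h1 : ∀ β ∈ F, β u = u → ∀ v ∈ V₁, β v = v := fun β hβ hfu v hv =>
      fix_of_fix hel hD.card₁ (pow9 hF hβ) (hD.st₁ β hβ) hu hu1 hfu hv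
    by_cases hy1 : y = 1
    · rw [hxy, hy1, mul_one]
      exact hx
    · exfalso
      have h2 : (F ⊓ MulAction.stabilizer (MulAut P) u : Subgroup (MulAut P)) = ⊥ := by
        rw [Subgroup.eq_bot_iff_forall]
        rintro β ⟨hβ, hfu⟩
        have hfu' : β u = u := hfu
        refine hD.eq_one (h1 β hβ hfu') fun w hw =>
          fix_of_fix hel hD.card₂ (pow9 hF hβ) (hD.st₂ β hβ) hy hy1 ?_ hw
        have h3 := h β hβ hfu'
        rw [hxy, map_mul, h1 β hβ hfu' x hx] at h3
        exact mul_left_cancel h3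
      have h3 := hD.card_stab hel hF hu hu1
      rw [h2, Subgroup.card_bot] at h3
      norm_num at h3
  · intro hv β hβ hfu
    exact fix_of_fix hel hD.card₁ (pow9 hF hβ) (hD.st₁ β hβ) hu hu1 hfu hv

omit hF in
/-- The stabilizer of a mixed element is trivial. -/
theorem Dec.stab_mul (hF : Nat.card F = 9) {u w : P} (hu : u ∈ V₁) (hu1 : u ≠ 1) (hw : w ∈ V₂)
    (hw1 : w ≠ 1) {β : MulAut P} (hβ : β ∈ F) (h : β (u * w) = u * w) : β = 1 := by
  rw [map_mul] at h
  have h1 : (β u)⁻¹ * u = β w * w⁻¹ := by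
    calc (β u)⁻¹ * u = (β u)⁻¹ * (u * w) * w⁻¹ := by group
      _ = (β u)⁻¹ * (β u * β w) * w⁻¹ := by rw [h]
      _ = β w * w⁻¹ := by group
  have h2 : (β u)⁻¹ * u ∈ V₁ := V₁.mul_mem (V₁.inv_mem (hD.st₁ β hβ u hu)) hu
  have h3 : (β u)⁻¹ * u ∈ V₂ := by
    rw [h1]
    exact V₂.mul_mem (hD.st₂ β hβ w hw) (V₂.inv_mem hw)
  have h4 := hD.disj _ h2 h3
  have h5 : β u = u := inv_mul_eq_one.1 h4
  rw [h1] at h4
  have h6 : β w = w := mul_inv_eq_one.1 h4
  exact hD.eq_one
    (fun v hv => fix_of_fix hel hD.card₁ (pow9 hF hβ) (hD.st₁ β hβ) hu hu1 h5 hv)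
    fun v hv => fix_of_fix hel hD.card₂ (pow9 hF hβ) (hD.st₂ β hβ) hw hw1 h6 hv

include hcard

theorem Dec.mem_orbit_mul {u w : P} (hu : u ∈ V₁) (hu1 : u ≠ 1) (hw : w ∈ V₂)
    (hw1 : w ≠ 1) {v : P} (hv₁ : v ∉ V₁) (hv₂ : v ∉ V₂) :
    v ∈ MulAction.orbit F (u * w) := by
  have h1 : Nat.card (MulAction.stabilizer F (u * w)) = 1 := by
    rw [Subgroup.card_eq_one, Subgroup.eq_bot_iff_forall]
    rintro ⟨β, hβ⟩ h
    exact Subtype.ext (hD.stab_mul hel hF hu hu1 hw hw1 hβ h)
  have h2 := card_orbit_mul (F := F) (u * w)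
  rw [h1, mul_one, hF] at h2
  -- the union
  have hd1 : Disjoint ((V₁ : Set P) ∪ (V₂ : Set P)) (MulAction.orbit F (u * w)) := by
    rw [Set.disjoint_left]
    intro x hx hy
    obtain ⟨β, hβ, hβx⟩ := AutNine.mem_orbit.1 hy
    have hβi : β⁻¹ ∈ F := F.inv_mem hβ
    have h3 : β⁻¹ x = u * w := by
      rw [← hβx, ← MulAut.mul_apply, inv_mul_cancel, MulAut.one_apply]
    rcases hx with hx | hx
    · have h4 := hD.st₁ _ hβi x hx
      rw [h3] at h4
      have h5 : w ∈ V₁ := (V₁.mul_mem_cancel_left hu).1 h4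
      exact hw1 (hD.disj w h5 hw)
    · have h4 := hD.st₂ _ hβi x hx
      rw [h3] at h4
      have h5 : u ∈ V₂ := (V₂.mul_mem_cancel_right hw).1 h4
      exact hu1 (hD.disj u hu h5)
  have hinter : ((V₁ : Set P) ∩ (V₂ : Set P)) = {1} := by
    ext x
    constructor
    · rintro ⟨h3, h4⟩
      exact hD.disj x h3 h4
    · rintro rfl
      exact ⟨V₁.one_mem, V₂.one_mem⟩
  have hun := Set.ncard_union_add_ncard_inter (V₁ : Set P) (V₂ : Set P) (Set.toFinite _)
    (Set.toFinite _)
  rw [hinter, Set.ncard_singleton, ← Nat.card_coe_set_eq (V₁ : Set P),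
    ← Nat.card_coe_set_eq (V₂ : Set P)] at hun
  change _ = Nat.card V₁ + Nat.card V₂ at hun
  rw [hD.card₁, hD.card₂] at hun
  have htot := Set.ncard_union_eq hd1 (Set.toFinite _) (Set.toFinite _)
  rw [← Nat.card_coe_set_eq (MulAction.orbit F (u * w)), h2] at htot
  have huniv : ((V₁ : Set P) ∪ (V₂ : Set P)) ∪ MulAction.orbit F (u * w) = Set.univ := by
    refine Set.eq_of_subset_of_ncard_le (Set.subset_univ _) ?_ (Set.toFinite _)
    rw [Set.ncard_univ, hcard, htot]
    omega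
  have h6 : v ∈ ((V₁ : Set P) ∪ (V₂ : Set P)) ∪ MulAction.orbit F (u * w) := by
    rw [huniv]
    exact Set.mem_univ v
  rcases h6 with (h6 | h6) | h6
  · exact absurd h6 hv₁
  · exact absurd h6 hv₂
  · exact h6

end nine

end Cfsg.Agent.H618.AutNine
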