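import Mathlib

/-!
# The integral projection of a block with inertial quotient of order three

`coreR`: `m` is a symmetric integral matrix with `m * m = 4 * m` and trace equal to its size
`4 * (l + 1)`, fixing (up to the factor four) a vector `n` with nonzero entries and norm `16`; then
`l = 3`, `n` has entries `1`, `-1`, and `m` is a direct sum of four matrices of rank one.
-/

set_option autoImplicit false

namespace Cfsg.Agent.H618.CoreR

variable {ι : Type*} [Fintype ι]

theorem eq_or_eq_of_sq {z : ℤ} (h : z ^ 2 = 1) : z = 1 ∨ z = -1 := by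
  have h1 : (z - 1) * (z + 1) = 0 := by linear_combination h
  rcases mul_eq_zero.1 h1 with h2 | h2
  · left; linarith
  · right; linarith

theorem coreR {l : ℕ} (hl : 1 ≤ l) (hk : Fintype.card ι = 4 * (l + 1))
    (n : ι → ℤ) (hn0 : ∀ i, n i ≠ 0) (hn : ∑ i, n i ^ 2 = 16)
    (m : ι → ι → ℤ) (hsymm : ∀ i j, m i j = m j i)
    (hmm : ∀ i j, ∑ k, m i k * m k j = 4 * m i j)
    (htr : ∑ i, m i i = 4 * (l + 1)) (hmn : ∀ i, ∑ j, m i j * n j = 4 * n i) :
    l = 3 ∧ (∀ i, n i = 1 ∨ n i = -1) ∧
      ∃ cl : ι → Fin 4, ∀ i j, m i j = if cl i = cl j then n i * n j else 0 := by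
  classical
  have hrow : ∀ i, ∑ k, m i k ^ 2 = 4 * m i i := by
    intro i
    rw [← hmm i i]
    exact Finset.sum_congr rfl fun k _ => by rw [hsymm k i]; ring
  have hpos : ∀ i, 1 ≤ m i i := by
    intro i
    by_contra hlt
    push Not at hlt
    have h1 := hrow i
    have h2 : ∀ k, m i k = 0 := by
      have h3 : ∑ k, m i k ^ 2 = 0 :=
        le_antisymm (by rw [h1]; omega) (Finset.sum_nonneg fun k _ => sq_nonneg _)
      intro k
      have h4 := (Finset.sum_eq_zero_iff_of_nonneg fun k _ => sq_nonneg (m i k)).1 h3 k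
        (Finset.mem_univ k)
      exact pow_eq_zero_iff (two_ne_zero) |>.1 h4
    have h3 := hmn i
    simp only [h2, zero_mul, Finset.sum_const_zero] at h3
    exact hn0 i (by omega)
  have hdiag : ∀ i, m i i = 1 := by
    have h1 : ∑ i, (m i i - 1) = 0 := by
      rw [Finset.sum_sub_distrib, htr, Finset.sum_const, Finset.card_univ, hk]
      ring
    intro i
    have h2 := (Finset.sum_eq_zero_iff_of_nonneg fun j _ => by
      have := hpos j
      omega).1 h1 i (Finset.mem_univ i)
    omega
  have hrow4 : ∀ i, ∑ k, m i k ^ 2 = 4 := fun i => by rw [hrow, hdiag]; ring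
  have hprop : ∀ i j, m i j ≠ 0 → m i j ^ 2 = 1 ∧ ∀ k, m i k = m i j * m j k := by
    intro i j hij
    have h1 : ∑ k, (m i k - m i j * m j k) ^ 2 = 4 - 4 * m i j ^ 2 := by
      have e1 : ∀ k, (m i k - m i j * m j k) ^ 2 =
          m i k ^ 2 - (2 * m i j) * (m i k * m k j) + m i j ^ 2 * m j k ^ 2 := by
        intro k
        rw [hsymm k j]
        ring
      rw [Finset.sum_congr rfl fun k _ => e1 k, Finset.sum_add_distrib, Finset.sum_sub_distrib,
        ← Finset.mul_sum, ← Finset.mul_sum, hrow4, hrow4, hmm]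
      ring
    have h2 : 0 ≤ ∑ k, (m i k - m i j * m j k) ^ 2 := Finset.sum_nonneg fun k _ => sq_nonneg _
    have h3 : m i j ^ 2 = 1 := by
      have h4 : 0 < m i j ^ 2 := by positivity
      rw [h1] at h2
      omega
    rw [h3] at h1
    refine ⟨h3, fun k => ?_⟩
    have h4 := (Finset.sum_eq_zero_iff_of_nonneg fun k _ =>
      sq_nonneg (m i k - m i j * m j k)).1 (by rw [h1]; ring) k (Finset.mem_univ k)
    have h5 := (pow_eq_zero_iff (two_ne_zero)).1 h4
    linarith
  have hn' : ∀ i j, m i j ≠ 0 → n i = m i j * n j := by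
    intro i j hij
    have h1 := hmn i
    have h2 : ∑ k, m i k * n k = m i j * (4 * n j) := by
      rw [← hmn j, Finset.mul_sum]
      exact Finset.sum_congr rfl fun k _ => by rw [(hprop i j hij).2 k]; ring
    rw [h2] at h1
    linarith
  have hsq : ∀ i, n i ^ 2 = 1 := by
    intro i
    by_contra hne
    have h0 : n i ^ 2 ≠ 0 := pow_ne_zero 2 (hn0 i)
    have h4 : 4 ≤ n i ^ 2 := by
      by_contra hlt
      push Not at hlt
      have h5 : n i < 2 := by nlinarith
      have h6 : -2 < n i := by nlinarith
      have h7 : n i = -1 ∨ n i = 0 ∨ n i = 1 := by omega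
      rcases h7 with h | h | h
      · exact hne (by rw [h]; norm_num)
      · exact hn0 i h
      · exact hne (by rw [h]; norm_num)
    have h5 : ∑ j, m i j ^ 2 * n j ^ 2 = 4 * n i ^ 2 := by
      have h6 : ∀ j, m i j ^ 2 * n j ^ 2 = m i j ^ 2 * n i ^ 2 := by
        intro j
        by_cases hj : m i j = 0
        · rw [hj]; ring
        · rw [hn' i j hj, mul_pow, (hprop i j hj).1]
          ring
      rw [Finset.sum_congr rfl fun j _ => h6 j, ← Finset.sum_mul, hrow4]
    have h6 : ∑ j, (1 - m i j ^ 2) * n j ^ 2 = 16 - 4 * n i ^ 2 := by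
      rw [← h5, ← hn, ← Finset.sum_sub_distrib]
      exact Finset.sum_congr rfl fun j _ => by ring
    have h7 : ∀ j, 0 ≤ (1 - m i j ^ 2) * n j ^ 2 := by
      intro j
      refine mul_nonneg ?_ (sq_nonneg _)
      by_cases hj : m i j = 0
      · rw [hj]; norm_num
      · rw [(hprop i j hj).1]; norm_num
    have h8 : ∑ j, (1 - m i j ^ 2) * n j ^ 2 = 0 :=
      le_antisymm (by rw [h6]; linarith) (Finset.sum_nonneg fun j _ => h7 j)
    have h9 : ∀ j, m i j ^ 2 = 1 := by
      intro j
      have h10 := (Finset.sum_eq_zero_iff_of_nonneg fun j _ => h7 j).1 h8 j (Finset.mem_univ j)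
      rcases mul_eq_zero.1 h10 with h | h
      · linarith
      · exact absurd h (pow_ne_zero 2 (hn0 j))
    have h10 := hrow4 i
    rw [Finset.sum_congr rfl fun j _ => h9 j, Finset.sum_const, Finset.card_univ, hk] at h10
    simp only [nsmul_eq_mul, mul_one] at h10
    have h11 : 4 * (l + 1) = 4 := by exact_mod_cast h10
    omega
  have hcard : Fintype.card ι = 16 := by
    rw [Finset.sum_congr rfl fun j _ => hsq j, Finset.sum_const, Finset.card_univ] at hn
    simp only [nsmul_eq_mul, mul_one] at hn
    exact_mod_cast hn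
  have hl3 : l = 3 := by omega
  refine ⟨hl3, fun i => eq_or_eq_of_sq (hsq i), ?_⟩
  -- the classes
  let s : Setoid ι :=
    { r := fun i j => m i j ≠ 0
      iseqv :=
        { refl := fun i => by rw [hdiag]; norm_num
          symm := fun {i j} h => by rw [hsymm]; exact h
          trans := fun {i j k} h1 h2 => by
            rw [(hprop i j h1).2 k]
            exact mul_ne_zero h1 h2 } }
  have hr : ∀ i j, s.r i j ↔ m i j ≠ 0 := fun i j => Iff.rfl
  have hfib : ∀ q : Quotient s, (Finset.univ.filter fun j => (⟦j⟧ : Quotient s) = q).card = 4 := by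
    intro q
    induction q using Quotient.inductionOn with
    | h i =>
      have h1 := hrow4 i
      have h2 : ∀ j, m i j ^ 2 = if (⟦j⟧ : Quotient s) = ⟦i⟧ then 1 else 0 := by
        intro j
        split_ifs with h
        · have h3 : m j i ≠ 0 := Quotient.exact h
          rw [hsymm] at h3
          exact (hprop i j h3).1
        · have h3 : m i j = 0 := by
            by_contra h4
            apply h
            refine Quotient.sound ?_
            change m j i ≠ 0
            rwa [hsymm]
          rw [h3]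
          norm_num
      rw [Finset.sum_congr rfl fun j _ => h2 j, ← Finset.sum_filter, Finset.sum_const] at h1
      simp only [nsmul_eq_mul, mul_one] at h1
      exact_mod_cast h1
  have hQ : Fintype.card (Quotient s) = 4 := by
    have h1 := Finset.card_eq_sum_card_fiberwise (s := (Finset.univ : Finset ι))
      (t := (Finset.univ : Finset (Quotient s))) (f := fun j => (⟦j⟧ : Quotient s))
      (fun _ _ => Finset.mem_coe.2 (Finset.mem_univ _))
    rw [Finset.sum_congr rfl fun q _ => hfib q, Finset.sum_const, Finset.card_univ,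
      Finset.card_univ, hcard] at h1
    simp only [smul_eq_mul] at h1
    omega
  let e := Fintype.equivFinOfCardEq hQ
  refine ⟨fun i => e ⟦i⟧, fun i j => ?_⟩
  have h1 : (e ⟦i⟧ = e ⟦j⟧) ↔ m i j ≠ 0 := by
    rw [e.apply_eq_iff_eq]
    exact ⟨fun h => Quotient.exact h, fun h => Quotient.sound h⟩
  split_ifs with h
  · have h2 := h1.1 h
    have h3 := hn' i j h2
    have h4 := hsq j
    rw [h3]
    linear_combination (-m i j) * h4
  · by_contra h2
    exact h (h1.2 h2)

end Cfsg.Agent.H618.CoreR
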