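import Mathlib
import Cfsg.Agent.H618.CoreR

/-!
# Two orthogonal systems of four vectors of norm four

`coreE`: `c i`, `c' j` (`i`, `j` in `Fin 4`) are integral vectors with `(c i, c j) = 4 δ`,
`(c' i, c' j) = 4 δ`, `(c i, c' j) = 1`, and `∑ c i = ∑ c' j = d` has nonzero entries.  If there are
at least `11` coordinates, then there are `16`, and they are labelled by `Fin 4 × Fin 4` such that
`c i` is, up to signs, the indicator of the `i`-th row and `c' j` that of the `j`-th column.
-/

set_option autoImplicit false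
set_option linter.unusedSectionVars false

namespace Cfsg.Agent.H618.CoreE

open Cfsg.Agent.H618.CoreR

variable {ι : Type*} [Fintype ι]

theorem entry (c c' : ι → ℤ) (h1 : ∑ x, c x * c x = 4) (h3 : ∑ x, c x * c' x = 1) (x : ι) :
    c x = 0 ∨ c x = 1 ∨ c x = -1 := by
  classical
  by_contra hne
  push Not at hne
  have hle : c x * c x ≤ 4 := h1 ▸ Finset.single_le_sum (f := fun y => c y * c y)
    (fun y _ => mul_self_nonneg (c y)) (Finset.mem_univ x)
  have h5 : c x ≤ 2 := by nlinarith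
  have h6 : -2 ≤ c x := by nlinarith
  have h2 : c x = 2 ∨ c x = -2 := by
    obtain ⟨a1, a2, a3⟩ := hne
    omega
  have h4 := Finset.add_sum_erase Finset.univ (fun y => c y * c y) (Finset.mem_univ x)
  have h7 : c x * c x = 4 := by rcases h2 with h | h <;> rw [h] <;> norm_num
  rw [h1, h7] at h4
  have h8 : ∑ y ∈ Finset.univ.erase x, c y * c y = 0 := by linarith
  have h9 : ∀ y, y ≠ x → c y = 0 := by
    intro y hy
    have h10 := (Finset.sum_eq_zero_iff_of_nonneg fun z _ => mul_self_nonneg (c z)).1 h8 y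
      (Finset.mem_erase.2 ⟨hy, Finset.mem_univ y⟩)
    exact mul_self_eq_zero.1 h10
  have h10 : ∑ y, c y * c' y = c x * c' x := by
    refine Finset.sum_eq_single x (fun y _ hy => ?_) fun h => absurd (Finset.mem_univ x) h
    rw [h9 y hy, zero_mul]
  rw [h3] at h10
  rcases h2 with h | h <;> rw [h] at h10 <;> omega

section one

variable {c : Fin 4 → ι → ℤ} (h1 : ∀ i j, ∑ x, c i x * c j x = if i = j then 4 else 0)
  (he : ∀ i x, c i x = 0 ∨ c i x = 1 ∨ c i x = -1) (hd0 : ∀ x, ∑ i, c i x ≠ 0)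

include h1

theorem sum_d_sq : ∑ x, (∑ i, c i x) ^ 2 = 16 := by
  have e1 : ∀ x, (∑ i, c i x) ^ 2 = ∑ i, ∑ j, c i x * c j x := by
    intro x
    rw [sq, Finset.sum_mul_sum]
  rw [Finset.sum_congr rfl fun x _ => e1 x, Finset.sum_comm]
  have e2 : ∀ i, ∑ x, ∑ j, c i x * c j x = 4 := by
    intro i
    rw [Finset.sum_comm, Finset.sum_congr rfl fun j _ => h1 i j]
    simp
  rw [Finset.sum_congr rfl fun i _ => e2 i]
  simp

theorem sum_n : ∑ x, ∑ i, c i x * c i x = 16 := by
  rw [Finset.sum_comm, Finset.sum_congr rfl fun i _ => h1 i i]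
  simp

include he hd0

omit h1 he in
theorem n_pos (x : ι) : 1 ≤ ∑ i, c i x * c i x := by
  by_contra h
  push Not at h
  have h2 : ∑ i, c i x * c i x = 0 :=
    le_antisymm (by omega) (Finset.sum_nonneg fun i _ => mul_self_nonneg _)
  have h3 : ∀ i, c i x = 0 := fun i => mul_self_eq_zero.1
    ((Finset.sum_eq_zero_iff_of_nonneg fun i _ => mul_self_nonneg (c i x)).1 h2 i
      (Finset.mem_univ i))
  exact hd0 x (Finset.sum_eq_zero fun i _ => h3 i)

omit h1 hd0 in
theorem n_le (x : ι) : ∑ i, c i x * c i x ≤ 4 := by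
  have h2 : ∀ i, c i x * c i x ≤ 1 := by
    intro i
    rcases he i x with h | h | h <;> rw [h] <;> norm_num
  calc ∑ i, c i x * c i x ≤ ∑ _i : Fin 4, (1 : ℤ) := Finset.sum_le_sum fun i _ => h2 i
    _ = 4 := by simp

omit h1 hd0 in
theorem parity (x : ι) : ∃ k, ∑ i, c i x * c i x = ∑ i, c i x + 2 * k := by
  have h2 : ∀ i, ∃ k, c i x * c i x = c i x + 2 * k := by
    intro i
    rcases he i x with h | h | h
    · exact ⟨0, by rw [h]; norm_num⟩
    · exact ⟨0, by rw [h]; norm_num⟩
    · exact ⟨1, by rw [h]; norm_num⟩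
  choose k hk using h2
  refine ⟨∑ i, k i, ?_⟩
  rw [Finset.sum_congr rfl fun i _ => hk i, Finset.sum_add_distrib, Finset.mul_sum]

omit h1 hd0 in
/-- A coordinate in one support only does not contribute. -/
theorem prod_zero {x : ι} (hx : ∑ i, c i x * c i x = 1) {i j : Fin 4} (hij : i ≠ j) :
    c i x * c j x = 0 := by
  by_contra h
  have hi : c i x ≠ 0 := fun h' => h (by rw [h', zero_mul])
  have hj : c j x ≠ 0 := fun h' => h (by rw [h', mul_zero])
  have h2 : ∀ i, c i x ≠ 0 → c i x * c i x = 1 := by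
    intro i hi
    rcases he i x with h | h | h
    · exact absurd h hi
    · rw [h]; norm_num
    · rw [h]; norm_num
  have h3 : ∑ k ∈ ({i, j} : Finset (Fin 4)), c k x * c k x ≤ ∑ k, c k x * c k x :=
    Finset.sum_le_sum_of_subset_of_nonneg (Finset.subset_univ _) fun k _ _ => mul_self_nonneg _
  rw [Finset.sum_pair hij, h2 i hi, h2 j hj, hx] at h3
  norm_num at h3

theorem card_eq (hk : 11 ≤ Fintype.card ι) : Fintype.card ι = 16 := by
  classical
  have hd1 : ∀ x, 1 ≤ (∑ i, c i x) ^ 2 := by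
    intro x
    have := hd0 x
    have h2 : 0 < (∑ i, c i x) ^ 2 := by positivity
    omega
  have hsum : ∑ x, ((∑ i, c i x) ^ 2 - 1) = 16 - (Fintype.card ι : ℤ) := by
    rw [Finset.sum_sub_distrib, sum_d_sq h1, Finset.sum_const, Finset.card_univ]
    simp
  have hsumn : ∑ x, (∑ i, c i x * c i x - 1) = 16 - (Fintype.card ι : ℤ) := by
    rw [Finset.sum_sub_distrib, sum_n h1, Finset.sum_const, Finset.card_univ]
    simp
  have hle : Fintype.card ι ≤ 16 := by
    have h2 : 0 ≤ ∑ x, ((∑ i, c i x) ^ 2 - 1) := Finset.sum_nonneg fun x _ => by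
      have := hd1 x
      omega
    omega
  by_contra hne
  have hex : ∃ x0, (∑ i, c i x0) ^ 2 ≠ 1 := by
    by_contra h
    push Not at h
    rw [Finset.sum_congr rfl fun x _ => by rw [h x, sub_self], Finset.sum_const_zero] at hsum
    omega
  obtain ⟨x0, hx0⟩ := hex
  have hbig : ∀ x, (∑ i, c i x) ^ 2 ≠ 1 → 4 ≤ (∑ i, c i x) ^ 2 := by
    intro x hx
    by_contra hlt
    push Not at hlt
    have h5 : ∑ i, c i x < 2 := by nlinarith
    have h6 : -2 < ∑ i, c i x := by nlinarith
    have h7 : ∑ i, c i x = -1 ∨ ∑ i, c i x = 0 ∨ ∑ i, c i x = 1 := by omega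
    rcases h7 with h | h | h
    · exact hx (by rw [h]; norm_num)
    · exact hd0 x h
    · exact hx (by rw [h]; norm_num)
  have hsplit := Finset.add_sum_erase Finset.univ (fun x => (∑ i, c i x) ^ 2 - 1)
    (Finset.mem_univ x0)
  rw [hsum] at hsplit
  have h4 := hbig x0 hx0
  have hothers : ∀ x, x ≠ x0 → (∑ i, c i x) ^ 2 = 1 := by
    intro x hx
    by_contra h
    have h5 := hbig x h
    have h6 : (∑ i, c i x) ^ 2 - 1 ≤ ∑ y ∈ Finset.univ.erase x0, ((∑ i, c i y) ^ 2 - 1) :=
      Finset.single_le_sum (f := fun y => (∑ i, c i y) ^ 2 - 1) (fun y _ => by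
        have := hd1 y
        omega) (Finset.mem_erase.2 ⟨hx, Finset.mem_univ x⟩)
    omega
  have hrest : ∑ y ∈ Finset.univ.erase x0, ((∑ i, c i y) ^ 2 - 1) = 0 :=
    Finset.sum_eq_zero fun y hy => by rw [hothers y (Finset.ne_of_mem_erase hy), sub_self]
  rw [hrest, add_zero] at hsplit
  have hd4 : (∑ i, c i x0) = 2 ∨ (∑ i, c i x0) = -2 := by
    have h5 : ∑ i, c i x0 < 3 := by nlinarith
    have h6 : -3 < ∑ i, c i x0 := by nlinarith
    have h7 : ∑ i, c i x0 = -2 ∨ ∑ i, c i x0 = -1 ∨ ∑ i, c i x0 = 0 ∨ ∑ i, c i x0 = 1 ∨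
        ∑ i, c i x0 = 2 := by omega
    rcases h7 with h | h | h | h | h
    · exact Or.inr h
    · rw [h] at h4; norm_num at h4
    · rw [h] at h4; norm_num at h4
    · rw [h] at h4; norm_num at h4
    · exact Or.inl h
  have h13 : Fintype.card ι = 13 := by
    have h5 : (∑ i, c i x0) ^ 2 = 4 := by rcases hd4 with h | h <;> rw [h] <;> norm_num
    rw [h5] at hsplit
    omega
  have hsumn' : ∑ x, (∑ i, c i x * c i x - 1) = 3 := by
    rw [hsumn, h13]
    norm_num
  -- the numbers of supports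
  have hodd : ∀ x, x ≠ x0 → ∑ i, c i x * c i x = 1 ∨ ∑ i, c i x * c i x = 3 := by
    intro x hx
    obtain ⟨k, hk⟩ := parity he x
    have h5 := n_pos hd0 x
    have h6 := n_le he x
    have h7 := eq_or_eq_of_sq (hothers x hx)
    rcases h7 with h | h <;> rw [h] at hk <;> omega
  have heven : ∑ i, c i x0 * c i x0 = 2 ∨ ∑ i, c i x0 * c i x0 = 4 := by
    obtain ⟨k, hk⟩ := parity he x0
    have h5 := n_pos hd0 x0
    have h6 := n_le he x0
    rcases hd4 with h | h <;> rw [h] at hk <;> omega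
  have hsplit' := Finset.add_sum_erase Finset.univ (fun x => ∑ i, c i x * c i x - 1)
    (Finset.mem_univ x0)
  rw [hsumn'] at hsplit'
  have hnn : ∀ y, 0 ≤ ∑ i, c i y * c i y - 1 := fun y => by
    have := n_pos hd0 y
    omega
  rcases heven with h2 | h2
  · -- `n = 2`
    rw [h2] at hsplit'
    have hex' : ∃ y, y ≠ x0 ∧ ∑ i, c i y * c i y = 3 := by
      by_contra h
      push Not at h
      have h5 : ∑ y ∈ Finset.univ.erase x0, (∑ i, c i y * c i y - 1) = 0 :=
        Finset.sum_eq_zero fun y hy => by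
          have h6 := Finset.ne_of_mem_erase hy
          rcases hodd y h6 with h7 | h7
          · rw [h7]; norm_num
          · exact absurd h7 (h y h6)
      rw [h5] at hsplit'
      norm_num at hsplit'
    obtain ⟨y, hy, hy3⟩ := hex'
    have hone : ∀ x, x ≠ x0 → x ≠ y → ∑ i, c i x * c i x = 1 := by
      intro x hx hxy
      rcases hodd x hx with h7 | h7
      · exact h7
      · exfalso
        have h8 : ∑ z ∈ ({x, y} : Finset ι), (∑ i, c i z * c i z - 1) ≤
            ∑ z ∈ Finset.univ.erase x0, (∑ i, c i z * c i z - 1) := by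
          refine Finset.sum_le_sum_of_subset_of_nonneg ?_ fun z _ _ => hnn z
          intro z hz
          rw [Finset.mem_insert, Finset.mem_singleton] at hz
          rcases hz with rfl | rfl
          · exact Finset.mem_erase.2 ⟨hx, Finset.mem_univ _⟩
          · exact Finset.mem_erase.2 ⟨hy, Finset.mem_univ _⟩
        rw [Finset.sum_pair hxy, h7, hy3] at h8
        omega
    have hpair : ∀ i j, i ≠ j → c i x0 * c j x0 + c i y * c j y = 0 := by
      intro i j hij
      have h8 := h1 i j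
      rw [if_neg hij, ← Finset.add_sum_erase _ _ (Finset.mem_univ x0),
        ← Finset.add_sum_erase _ _ (Finset.mem_erase.2 ⟨hy, Finset.mem_univ y⟩)] at h8
      rw [Finset.sum_eq_zero (s := (Finset.univ.erase x0).erase y) fun z hz => ?_] at h8
      · linarith
      · have h9 := Finset.mem_erase.1 hz
        have h10 := Finset.mem_erase.1 h9.2
        exact prod_zero he (hone z h10.1 h9.1) hij
    have h4x : ∀ i z, (c i z) ^ 4 = c i z * c i z := by
      intro i z
      rcases he i z with h | h | h <;> rw [h] <;> norm_num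
    have q01 := hpair 0 1 (by decide)
    have q02 := hpair 0 2 (by decide)
    have q03 := hpair 0 3 (by decide)
    have q12 := hpair 1 2 (by decide)
    have q13 := hpair 1 3 (by decide)
    have q23 := hpair 2 3 (by decide)
    have sq : ∀ {a b : ℤ}, a + b = 0 → a ^ 2 = b ^ 2 := by
      intro a b h
      have : a = -b := by linarith
      rw [this]; ring
    have r01 := sq q01
    have r02 := sq q02
    have r03 := sq q03
    have r12 := sq q12
    have r13 := sq q13
    have r23 := sq q23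
    rw [Fin.sum_univ_four] at h2 hy3
    have e1 : (c 0 x0 * c 0 x0 + c 1 x0 * c 1 x0 + c 2 x0 * c 2 x0 + c 3 x0 * c 3 x0) ^ 2 = 4 := by
      rw [h2]; norm_num
    have e2 : (c 0 y * c 0 y + c 1 y * c 1 y + c 2 y * c 2 y + c 3 y * c 3 y) ^ 2 = 9 := by
      rw [hy3]; norm_num
    have e3 : (4 : ℤ) - 2 = 9 - 3 := by
      linear_combination (-1 : ℤ) * e1 + e2 - (-1 : ℤ) * h2 - hy3 + h4x 0 x0 + h4x 1 x0 + h4x 2 x0 +
        h4x 3 x0 - h4x 0 y - h4x 1 y - h4x 2 y - h4x 3 y + 2 * (r01 + r02 + r03 + r12 + r13 + r23)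
    norm_num at e3
  · -- `n = 4`
    rw [h2] at hsplit'
    have h5 : ∀ y, y ≠ x0 → ∑ i, c i y * c i y = 1 := by
      intro y hy
      have h6 : ∑ y ∈ Finset.univ.erase x0, (∑ i, c i y * c i y - 1) = 0 := by linarith
      have h7 := (Finset.sum_eq_zero_iff_of_nonneg fun z _ => hnn z).1 h6 y
        (Finset.mem_erase.2 ⟨hy, Finset.mem_univ y⟩)
      linarith
    have h6 := h1 0 1
    rw [if_neg (by decide), ← Finset.add_sum_erase _ _ (Finset.mem_univ x0),
      Finset.sum_eq_zero (s := Finset.univ.erase x0) fun z hz =>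
        prod_zero he (h5 z (Finset.ne_of_mem_erase hz)) (by decide), add_zero] at h6
    have h7 : ∀ i, c i x0 ≠ 0 := by
      intro i hi
      have h8 : ∀ j, c j x0 * c j x0 ≤ 1 := by
        intro j
        rcases he j x0 with h | h | h <;> rw [h] <;> norm_num
      rw [← Finset.add_sum_erase _ _ (Finset.mem_univ i), hi] at h2
      have h9 : ∑ j ∈ Finset.univ.erase i, c j x0 * c j x0 ≤
          ∑ _j ∈ Finset.univ.erase i, (1 : ℤ) := Finset.sum_le_sum fun j _ => h8 j
      have h10 : ∑ _j ∈ Finset.univ.erase i, (1 : ℤ) = 3 := by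
        rw [Finset.sum_const, Finset.card_erase_of_mem (Finset.mem_univ i)]
        rfl
      rw [h10] at h9
      linarith
    exact (mul_ne_zero (h7 0) (h7 1)) h6

theorem exists_label (hk : Fintype.card ι = 16) :
    ∃ f : ι → Fin 4, (∀ x, ∑ i, c i x = 1 ∨ ∑ i, c i x = -1) ∧
      ∀ i x, c i x = if f x = i then ∑ j, c j x else 0 := by
  classical
  have hsumn : ∑ x, (∑ i, c i x * c i x - 1) = 0 := by
    rw [Finset.sum_sub_distrib, sum_n h1, Finset.sum_const, Finset.card_univ, hk]
    simp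
  have hn1 : ∀ x, ∑ i, c i x * c i x = 1 := by
    intro x
    have h2 := (Finset.sum_eq_zero_iff_of_nonneg fun z _ => by
      have := n_pos hd0 z
      omega).1 hsumn x (Finset.mem_univ x)
    linarith
  have hex : ∀ x, ∃ i, c i x ≠ 0 := by
    intro x
    by_contra h
    push Not at h
    exact hd0 x (Finset.sum_eq_zero fun i _ => h i)
  choose f hf using hex
  have hz : ∀ x i, i ≠ f x → c i x = 0 := by
    intro x i hi
    have h2 := prod_zero he (hn1 x) hi
    exact (mul_eq_zero.1 h2).resolve_right (hf x)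
  have hs : ∀ x, ∑ j, c j x = c (f x) x := fun x =>
    Finset.sum_eq_single (f x) (fun j _ hj => hz x j hj) fun h => absurd (Finset.mem_univ _) h
  refine ⟨f, fun x => ?_, fun i x => ?_⟩
  · rw [hs]
    rcases he (f x) x with h | h
    · exact absurd h (hf x)
    · exact h
  · split_ifs with h
    · rw [hs, h]
    · exact hz x i fun h' => h h'.symm

end one

theorem coreE (hk : 11 ≤ Fintype.card ι) {c c' : Fin 4 → ι → ℤ}
    (h1 : ∀ i j, ∑ x, c i x * c j x = if i = j then 4 else 0)
    (h2 : ∀ i j, ∑ x, c' i x * c' j x = if i = j then 4 else 0)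
    (h3 : ∀ i j, ∑ x, c i x * c' j x = 1)
    (hd : ∀ x, ∑ i, c i x = ∑ i, c' i x) (hd0 : ∀ x, ∑ i, c i x ≠ 0) :
    Fintype.card ι = 16 ∧ ∃ (f : ι ≃ Fin 4 × Fin 4) (d : ι → ℤ), (∀ x, d x = 1 ∨ d x = -1) ∧
      (∀ i x, c i x = if (f x).1 = i then d x else 0) ∧
      ∀ i x, c' i x = if (f x).2 = i then d x else 0 := by
  classical
  have he : ∀ i x, c i x = 0 ∨ c i x = 1 ∨ c i x = -1 := fun i x =>
    entry (c i) (c' 0) (by rw [h1, if_pos rfl]) (h3 i 0) x
  have he' : ∀ i x, c' i x = 0 ∨ c' i x = 1 ∨ c' i x = -1 := fun i x =>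
    entry (c' i) (c 0) (by rw [h2, if_pos rfl])
      (by rw [← h3 0 i]; exact Finset.sum_congr rfl fun _ _ => mul_comm _ _) x
  have hd0' : ∀ x, ∑ i, c' i x ≠ 0 := fun x => by rw [← hd]; exact hd0 x
  have h16 := card_eq h1 he hd0 hk
  obtain ⟨f, hf1, hf2⟩ := exists_label h1 he hd0 h16
  obtain ⟨f', hf1', hf2'⟩ := exists_label h2 he' hd0' h16
  set d : ι → ℤ := fun x => ∑ i, c i x with hdd
  have hd2 : ∀ x, d x * d x = 1 := by
    intro x
    rcases hf1 x with h | h <;> simp only [hdd, h] <;> norm_num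
  have hcount : ∀ i j, ∃! x, (f x, f' x) = (i, j) := by
    intro i j
    have h5 := h3 i j
    have h6 : ∀ x, c i x * c' j x = if (f x, f' x) = (i, j) then 1 else 0 := by
      intro x
      rw [hf2 i x, hf2' j x, ← hd]
      by_cases ha : f x = i
      · by_cases hb : f' x = j
        · rw [if_pos ha, if_pos hb, if_pos (by rw [ha, hb])]
          exact hd2 x
        · rw [if_neg hb, mul_zero, if_neg fun h => hb (Prod.ext_iff.1 h).2]
      · rw [if_neg ha, zero_mul, if_neg fun h => ha (Prod.ext_iff.1 h).1]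
    rw [Finset.sum_congr rfl fun x _ => h6 x, ← Finset.sum_filter, Finset.sum_const] at h5
    simp only [nsmul_eq_mul, mul_one] at h5
    have h7 : (Finset.univ.filter fun x => (f x, f' x) = (i, j)).card = 1 := by exact_mod_cast h5
    obtain ⟨x, hx⟩ := Finset.card_eq_one.1 h7
    have h8 : ∀ z, (f z, f' z) = (i, j) ↔ z = x := by
      intro z
      rw [← Finset.mem_singleton (a := x), ← hx, Finset.mem_filter]
      simp
    exact ⟨x, (h8 x).2 rfl, fun z hz => (h8 z).1 hz⟩
  have hbij : Function.Bijective fun x => (f x, f' x) := by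
    refine ⟨fun x y hxy => ?_, fun ij => ?_⟩
    · obtain ⟨z, -, hz⟩ := hcount (f x) (f' x)
      rw [hz x rfl, hz y hxy.symm]
    · obtain ⟨x, hx, -⟩ := hcount ij.1 ij.2
      exact ⟨x, hx⟩
  refine ⟨h16, Equiv.ofBijective _ hbij, d, hf1, fun i x => hf2 i x, fun i x => ?_⟩
  rw [hf2' i x, ← hd]
  rfl

end Cfsg.Agent.H618.CoreE
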