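import Mathlib
import Cfsg.Agent.H618.CoreE

/-!
# Projections with four integral columns

* `gram`: four integral vectors `c i` such that `∑ c i x * c i y` is four times a projection of
  rank four are orthogonal of norm four;
* `cross`: the inner products of two such systems;
* `exists_lift`: normalization of the sums.
-/

set_option autoImplicit false
set_option linter.unusedSectionVars false

namespace Cfsg.Agent.H618.CoreQ

open Cfsg.Agent.H618.CoreR Matrix

variable {ι : Type*} [Fintype ι]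

theorem gram {c : Fin 4 → ι → ℤ}
    (hQ : ∀ x z, ∑ y, (∑ i, c i x * c i y) * (∑ i, c i y * c i z) = 4 * ∑ i, c i x * c i z)
    (htr : ∑ x, ∑ i, c i x * c i x = 16) (i j : Fin 4) :
    ∑ x, c i x * c j x = if i = j then 4 else 0 := by
  classical
  set C : Matrix (Fin 4) ι ℤ := Matrix.of c with hC
  have hQ' : (Cᵀ * C) * (Cᵀ * C) = (4 : ℤ) • (Cᵀ * C) := by
    ext x z
    rw [Matrix.mul_apply, Matrix.smul_apply, Matrix.mul_apply, smul_eq_mul]
    exact hQ x z
  have ht : (Cᵀ * C).trace = 16 := htr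
  set N : Matrix (Fin 4) (Fin 4) ℤ := C * Cᵀ with hN
  have hNt : N.trace = 16 := by rw [hN, Matrix.trace_mul_comm, ht]
  have hNN : (N * N).trace = 64 := by
    have h1 : N * N = C * ((Cᵀ * C) * Cᵀ) := by
      rw [hN]
      simp only [Matrix.mul_assoc]
    have h2 : ((Cᵀ * C) * Cᵀ) * C = (Cᵀ * C) * (Cᵀ * C) := by
      simp only [Matrix.mul_assoc]
    rw [h1, Matrix.trace_mul_comm, h2, hQ', Matrix.trace_smul, ht]
    norm_num
  have hsym : Nᵀ = N := by
    rw [hN, Matrix.transpose_mul, Matrix.transpose_transpose]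
  set R : Matrix (Fin 4) (Fin 4) ℤ := N - (4 : ℤ) • (1 : Matrix (Fin 4) (Fin 4) ℤ) with hR
  have hRR : (R * Rᵀ).trace = 0 := by
    have h1 : Rᵀ = R := by
      rw [hR, Matrix.transpose_sub, hsym, Matrix.transpose_smul, Matrix.transpose_one]
    have h2 : R * R = N * N - (8 : ℤ) • N + (16 : ℤ) • (1 : Matrix (Fin 4) (Fin 4) ℤ) := by
      rw [hR, Matrix.sub_mul, Matrix.mul_sub, Matrix.mul_sub, Matrix.mul_smul, Matrix.mul_one,
        Matrix.smul_mul, Matrix.one_mul, Matrix.smul_mul, Matrix.one_mul, smul_smul]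
      module
    rw [h1, h2, Matrix.trace_add, Matrix.trace_sub, hNN, Matrix.trace_smul, Matrix.trace_smul, hNt,
      Matrix.trace_one, Fintype.card_fin]
    norm_num
  have hR0 : R i j = 0 := by
    have h1 : ∑ a, ∑ b, R a b * R a b = 0 := hRR
    have h2 := (Finset.sum_eq_zero_iff_of_nonneg fun a _ =>
      Finset.sum_nonneg fun b _ => mul_self_nonneg (R a b)).1 h1 i (Finset.mem_univ i)
    have h3 := (Finset.sum_eq_zero_iff_of_nonneg fun b _ =>
      mul_self_nonneg (R i b)).1 h2 j (Finset.mem_univ j)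
    exact mul_self_eq_zero.1 h3
  have h1 : R i j = N i j - if i = j then 4 else 0 := by
    rw [hR, Matrix.sub_apply, Matrix.smul_apply, Matrix.one_apply, smul_eq_mul]
    split_ifs <;> ring
  have h2 : N i j = ∑ x, c i x * c j x := rfl
  rw [← h2]
  rw [h1] at hR0
  linarith

theorem cross {c c' : Fin 4 → ι → ℤ} (h1 : ∀ i j, ∑ x, c i x * c j x = if i = j then 4 else 0)
    (h2 : ∀ i j, ∑ x, c' i x * c' j x = if i = j then 4 else 0) {d : ι → ℤ}
    (hd : ∀ x, ∑ i, c i x = d x) (hd' : ∀ x, ∑ i, c' i x = d x)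
    (hQ : ∀ x z, ∑ y, (∑ i, c i x * c i y) * (∑ j, c' j y * c' j z) = d x * d z) (k l : Fin 4) :
    ∑ x, c k x * c' l x = 1 := by
  classical
  set C : Matrix (Fin 4) ι ℤ := Matrix.of c with hC
  set C' : Matrix (Fin 4) ι ℤ := Matrix.of c' with hC'
  have hN : C * Cᵀ = (4 : ℤ) • 1 := by
    ext i j
    rw [Matrix.smul_apply, Matrix.one_apply, Matrix.mul_apply]
    change ∑ x, c i x * c j x = _
    rw [h1, smul_eq_mul]
    split_ifs <;> ring
  have hN' : C' * C'ᵀ = (4 : ℤ) • 1 := by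
    ext i j
    rw [Matrix.smul_apply, Matrix.one_apply, Matrix.mul_apply]
    change ∑ x, c' i x * c' j x = _
    rw [h2, smul_eq_mul]
    split_ifs <;> ring
  have hQ' : (Cᵀ * C) * (C'ᵀ * C') = Matrix.of fun x z => d x * d z := by
    ext x z
    rw [Matrix.mul_apply]
    exact hQ x z
  have e1 : C * ((Cᵀ * C) * (C'ᵀ * C')) * C'ᵀ = (16 : ℤ) • (C * C'ᵀ) := by
    have e2 : C * ((Cᵀ * C) * (C'ᵀ * C')) * C'ᵀ = (C * Cᵀ) * (C * C'ᵀ) * (C' * C'ᵀ) := by
      simp only [Matrix.mul_assoc]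
    rw [e2, hN, hN', Matrix.smul_mul, Matrix.one_mul, Matrix.mul_smul, Matrix.mul_one, smul_smul]
    norm_num
  have e3 : (C * ((Cᵀ * C) * (C'ᵀ * C')) * C'ᵀ) k l = 16 := by
    rw [hQ', Matrix.mul_apply]
    have e4 : ∀ z, (C * Matrix.of fun x z => d x * d z) k z = 4 * d z := by
      intro z
      rw [Matrix.mul_apply]
      change ∑ x, c k x * (d x * d z) = _
      have e5 : ∑ x, c k x * d x = 4 := by
        have e6 : ∀ x, c k x * d x = ∑ j, c k x * c j x := by
          intro x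
          rw [← hd, Finset.mul_sum]
        rw [Finset.sum_congr rfl fun x _ => e6 x, Finset.sum_comm,
          Finset.sum_congr rfl fun j _ => h1 k j]
        simp
      rw [← e5, Finset.sum_mul]
      exact Finset.sum_congr rfl fun x _ => by ring
    have e7 : ∑ z, c' l z * d z = 4 := by
      have e6 : ∀ x, c' l x * d x = ∑ j, c' l x * c' j x := by
        intro x
        rw [← hd', Finset.mul_sum]
      rw [Finset.sum_congr rfl fun x _ => e6 x, Finset.sum_comm,
        Finset.sum_congr rfl fun j _ => h2 l j]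
      simp
    have e8 : ∀ z, (C * Matrix.of fun x z => d x * d z) k z * C'ᵀ z l = 4 * (c' l z * d z) := by
      intro z
      rw [e4]
      change 4 * d z * c' l z = _
      ring
    rw [Finset.sum_congr rfl fun z _ => e8 z, ← Finset.mul_sum, e7]
    norm_num
  rw [e1, Matrix.smul_apply, smul_eq_mul, Matrix.mul_apply] at e3
  change 16 * ∑ x, c k x * c' l x = 16 at e3
  linarith

/-- Normalization of the sums. -/
theorem exists_lift (X : ι → Fin 4 → ℤ) (d : ι → ℤ)
    (h : ∀ x y, (4 : ℤ) ∣ (∑ i, X x i) * (∑ i, X y i) - d x * d y) (hodd : ∃ x, Odd (d x)) :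
    ∃ c : Fin 4 → ι → ℤ, (∀ x, ∑ i, c i x = d x) ∧
      ∀ x y, 4 * ∑ i, c i x * c i y - d x * d y =
        4 * ∑ i, X x i * X y i - (∑ i, X x i) * (∑ i, X y i) := by
  obtain ⟨x0, hx0⟩ := hodd
  set s : ι → ℤ := fun x => ∑ i, X x i with hs
  have h' : ∀ x y, (4 : ℤ) ∣ s x * s y - d x * d y := h
  -- the sign
  have hsodd : Odd (s x0) := by
    obtain ⟨k, hk⟩ := h' x0 x0
    rw [← Int.not_even_iff_odd]
    intro hev
    obtain ⟨a, ha⟩ := hev
    obtain ⟨b, hb⟩ := hx0
    rw [ha, hb] at hk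
    have : (2 * (2 * a * a) - (2 * b + 1) * (2 * b + 1) : ℤ) = 4 * k := by rw [← hk]; ring
    ring_nf at this
    omega
  obtain ⟨ε, hε, hε4⟩ : ∃ ε : ℤ, (ε * ε = 1) ∧ (4 : ℤ) ∣ d x0 - ε * s x0 := by
    obtain ⟨a, ha⟩ := hsodd
    obtain ⟨b, hb⟩ := hx0
    rcases Int.even_or_odd' (b - a) with ⟨m, hm | hm⟩
    · exact ⟨1, by norm_num, m, by rw [ha, hb]; linarith⟩
    · exact ⟨-1, by norm_num, a + m + 1, by rw [ha, hb]; linarith⟩
  have hall : ∀ y, (4 : ℤ) ∣ d y - ε * s y := by
    intro y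
    obtain ⟨k, hk⟩ := h' x0 y
    obtain ⟨m, hm⟩ := hε4
    -- `ε s0 = d0 - 4 m`, `s0 s y = d0 d y + 4 k`
    have h2 : d x0 * (ε * s y - d y) = 4 * (ε * ε * 0 + (ε * s y * m + k)) := by
      have h3 : d x0 = ε * s x0 + 4 * m := by linarith
      have h4 : d x0 * d y = s x0 * s y - 4 * k := by linarith
      have h5 : d x0 * (ε * s y - d y) = (ε * s x0 + 4 * m) * (ε * s y) - d x0 * d y := by
        rw [← h3]; ring
      rw [h5, h4]
      linear_combination (s x0 * s y) * hε
    have h6 : (4 : ℤ) ∣ d x0 * (ε * s y - d y) := ⟨_, h2⟩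
    have h7 : IsCoprime (4 : ℤ) (d x0) := by
      rw [show (4 : ℤ) = 2 ^ 2 by norm_num]
      refine IsCoprime.pow_left ?_
      rw [Int.isCoprime_iff_gcd_eq_one]
      obtain ⟨b, hb⟩ := hx0
      rw [hb]
      have : Int.gcd 2 (2 * b + 1) = Int.gcd 2 1 := by
        rw [Int.gcd_comm, add_comm, Int.gcd_add_mul_left_left, Int.gcd_comm]
      rw [this]
      rfl
    have h8 := h7.dvd_of_dvd_mul_left h6
    obtain ⟨q, hq⟩ := h8
    exact ⟨-q, by linarith⟩
  choose m hm using hall
  refine ⟨fun i x => ε * X x i + m x, fun x => ?_, fun x y => ?_⟩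
  · rw [Finset.sum_add_distrib, ← Finset.mul_sum]
    change ε * s x + _ = _
    rw [Finset.sum_const, Finset.card_univ, Fintype.card_fin, nsmul_eq_mul]
    push_cast
    linarith [hm x]
  · have e1 : ∀ i, (ε * X x i + m x) * (ε * X y i + m y) =
        X x i * X y i + (ε * m y) * X x i + (ε * m x) * X y i + m x * m y := by
      intro i
      linear_combination (X x i * X y i) * hε
    rw [Finset.sum_congr rfl fun i _ => e1 i, Finset.sum_add_distrib, Finset.sum_add_distrib,
      Finset.sum_add_distrib, ← Finset.mul_sum, ← Finset.mul_sum, Finset.sum_const,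
      Finset.card_univ, Fintype.card_fin, nsmul_eq_mul]
    change 4 * (_ + ε * m y * s x + ε * m x * s y + _) - _ = _ - s x * s y
    have e2 : d x = ε * s x + 4 * m x := by linarith [hm x]
    have e3 : d y = ε * s y + 4 * m y := by linarith [hm y]
    rw [e2, e3]
    push_cast
    linear_combination (-(s x * s y)) * hε

end Cfsg.Agent.H618.CoreQ
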