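import Mathlib
import Cfsg.Agent.H616.FormBd

/-!
# The form of a grid

The members of the block `b` are labelled by `Fin 4 × Fin 4`, and the relations between the
restrictions are spanned by the (signed) indicators of the rows and columns: then there is a form
with trace `16`.
-/

set_option autoImplicit false
set_option linter.unusedSectionVars false

open Cfsg

namespace Cfsg.Agent.H618.GridForm

open Cfsg.Agent.H616.Form Cfsg.Agent.H616

/-- The cyclic difference. -/
def df (i r : Fin 4) : ℤ := (if i = r then 1 else 0) - (if i + 1 = r then 1 else 0)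

theorem sum_df (r : Fin 4) : ∑ i, df i r = 0 := by
  revert r; decide

theorem sum_df_sq (r : Fin 4) : ∑ i, df i r ^ 2 = 2 := by
  revert r; decide

theorem sum_mul_df (i : Fin 4) (g : Fin 4 → ℤ) : ∑ r, g r * df i r = g i - g (i + 1) := by
  simp only [df, mul_sub, Finset.sum_sub_distrib, mul_ite, mul_one, mul_zero]
  rw [Finset.sum_ite_eq, Finset.sum_ite_eq, if_pos (Finset.mem_univ _),
    if_pos (Finset.mem_univ _)]

/-- A nonzero integral matrix with zero row and column sums has norm at least four. -/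
theorem four_le {D : Fin 4 → Fin 4 → ℤ} (hr : ∀ i, ∑ j, D i j = 0) (hc : ∀ j, ∑ i, D i j = 0)
    (h0 : ∃ i j, D i j ≠ 0) : 4 ≤ ∑ i, ∑ j, D i j ^ 2 := by
  classical
  obtain ⟨i, j, hij⟩ := h0
  have hrow : ∀ i j, D i j ≠ 0 → ∃ j', j' ≠ j ∧ D i j' ≠ 0 := by
    intro i j hij
    by_contra h
    push Not at h
    have h1 := hr i
    rw [Finset.sum_eq_single j (fun j' _ hj' => h j' hj') fun h => absurd (Finset.mem_univ _) h]
      at h1
    exact hij h1
  have hcol : ∀ i j, D i j ≠ 0 → ∃ i', i' ≠ i ∧ D i' j ≠ 0 := by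
    intro i j hij
    by_contra h
    push Not at h
    have h1 := hc j
    rw [Finset.sum_eq_single i (fun i' _ hi' => h i' hi') fun h => absurd (Finset.mem_univ _) h]
      at h1
    exact hij h1
  have hrow2 : ∀ i, (∃ j, D i j ≠ 0) → 2 ≤ ∑ j, D i j ^ 2 := by
    rintro i ⟨j, hj⟩
    obtain ⟨j', hne, hj'⟩ := hrow i j hj
    have h1 : ∑ k ∈ ({j, j'} : Finset (Fin 4)), D i k ^ 2 ≤ ∑ k, D i k ^ 2 :=
      Finset.sum_le_sum_of_subset_of_nonneg (Finset.subset_univ _) fun k _ _ => sq_nonneg _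
    rw [Finset.sum_pair hne.symm] at h1
    have h2 : 0 < D i j ^ 2 := by positivity
    have h3 : 0 < D i j' ^ 2 := by positivity
    omega
  obtain ⟨i', hne, hi'⟩ := hcol i j hij
  have h1 : ∑ k ∈ ({i, i'} : Finset (Fin 4)), ∑ j, D k j ^ 2 ≤ ∑ k, ∑ j, D k j ^ 2 :=
    Finset.sum_le_sum_of_subset_of_nonneg (Finset.subset_univ _) fun k _ _ =>
      Finset.sum_nonneg fun j _ => sq_nonneg _
  rw [Finset.sum_pair hne.symm] at h1
  have h2 := hrow2 i ⟨j, hij⟩
  have h3 := hrow2 i' ⟨j, hi'⟩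
  omega

universe u

variable {H : Type u} [Group H] [Finite H] {p : ℕ} [Fact p.Prime] {M : Ideal AlgInt}
  {b : Set (IrrCharacter H)} [Fintype b]

/-- The second differences. -/
def sd (f : b → Fin 4 × Fin 4) (d : b → ℤ) (ψ : b) (i j : Fin 4) : ℤ :=
  d ψ * (df i (f ψ).1 * df j (f ψ).2)

theorem sum_sd {f : b ≃ Fin 4 × Fin 4} {d : b → ℤ} (c : b → ℤ) (i j : Fin 4) :
    ∑ ψ, c ψ * sd f d ψ i j =
      (c (f.symm (i, j)) * d (f.symm (i, j)) - c (f.symm (i, j + 1)) * d (f.symm (i, j + 1))) -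
      (c (f.symm (i + 1, j)) * d (f.symm (i + 1, j)) -
        c (f.symm (i + 1, j + 1)) * d (f.symm (i + 1, j + 1))) := by
  have h1 : ∑ ψ, c ψ * sd f d ψ i j = ∑ x : Fin 4 × Fin 4,
      c (f.symm x) * d (f.symm x) * df j x.2 * df i x.1 := by
    refine Fintype.sum_equiv f _ _ fun ψ => ?_
    rw [f.symm_apply_apply, sd]
    ring
  rw [h1, Fintype.sum_prod_type]
  have h2 : ∀ r, ∑ s, c (f.symm (r, s)) * d (f.symm (r, s)) * df j s * df i r =
      (c (f.symm (r, j)) * d (f.symm (r, j)) - c (f.symm (r, j + 1)) * d (f.symm (r, j + 1))) *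
        df i r := by
    intro r
    rw [← Finset.sum_mul, sum_mul_df j (fun s => c (f.symm (r, s)) * d (f.symm (r, s)))]
  rw [Finset.sum_congr rfl fun r _ => h2 r,
    sum_mul_df i (fun r => c (f.symm (r, j)) * d (f.symm (r, j)) -
      c (f.symm (r, j + 1)) * d (f.symm (r, j + 1)))]

/-- The relations of a grid. -/
theorem grid_rel (hM : IsPModular p M) (hb : IsPBlock M b) (hl : 9 ≤ blockRank p b)
    (f : b ≃ Fin 4 × Fin 4) {d : b → ℤ} (hd : ∀ x, d x = 1 ∨ d x = -1)
    (hrow : ∀ i, Rel p b (fun x => if (f x).1 = i then d x else 0))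
    (hcol : ∀ j, Rel p b (fun x => if (f x).2 = j then d x else 0)) (c : b → ℤ) :
    Rel p b c ↔ ∀ i j, ∑ ψ, c ψ * sd f d ψ i j = 0 := by
  classical
  have hdd : ∀ x, d x * d x = 1 := by
    intro x
    rcases hd x with h | h <;> rw [h] <;> norm_num
  have hrange : ∀ i : Fin 4, i ≠ 3 → ∃ i' : Fin 3, i'.castSucc = i := by decide
  -- the sums of second differences
  have hsum1 : ∀ (c : b → ℤ) (j : Fin 4), ∑ i, ∑ ψ, c ψ * sd f d ψ i j = 0 := by
    intro c j
    rw [Finset.sum_comm]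
    refine Finset.sum_eq_zero fun ψ _ => ?_
    have h1 : ∀ i, c ψ * sd f d ψ i j = (c ψ * d ψ * df j (f ψ).2) * df i (f ψ).1 := by
      intro i
      rw [sd]; ring
    rw [Finset.sum_congr rfl fun i _ => h1 i, ← Finset.mul_sum, sum_df, mul_zero]
  have hsum2 : ∀ (c : b → ℤ) (i : Fin 4), ∑ j, ∑ ψ, c ψ * sd f d ψ i j = 0 := by
    intro c i
    rw [Finset.sum_comm]
    refine Finset.sum_eq_zero fun ψ _ => ?_
    have h1 : ∀ j, c ψ * sd f d ψ i j = (c ψ * d ψ * df i (f ψ).1) * df j (f ψ).2 := by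
      intro i
      rw [sd]; ring
    rw [Finset.sum_congr rfl fun i _ => h1 i, ← Finset.mul_sum, sum_df, mul_zero]
  -- small second differences are enough
  have hall : ∀ c : b → ℤ, (∀ x : Fin 3 × Fin 3, ∑ ψ, c ψ * sd f d ψ x.1.castSucc x.2.castSucc = 0) →
      ∀ i j, ∑ ψ, c ψ * sd f d ψ i j = 0 := by
    intro c h
    have h1 : ∀ (i : Fin 3) (j : Fin 4), ∑ ψ, c ψ * sd f d ψ i.castSucc j = 0 := by
      intro i j
      by_cases hj : j = 3
      · have h2 := hsum2 c i.castSucc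
        rw [Fin.sum_univ_castSucc, Finset.sum_eq_zero fun j _ => h (i, j), zero_add] at h2
        rw [hj]
        exact h2
      · obtain ⟨j', rfl⟩ := hrange j hj
        exact h (i, j')
    intro i j
    by_cases hi : i = 3
    · have h2 := hsum1 c j
      rw [Fin.sum_univ_castSucc, Finset.sum_eq_zero fun i _ => h1 i j, zero_add] at h2
      rw [hi]
      exact h2
    · obtain ⟨i', rfl⟩ := hrange i hi
      exact h1 i' j
  have key := rel_iff_of_le hM hb (κ := Fin 3 × Fin 3)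
    (fun ψ x => sd f d ψ x.1.castSucc x.2.castSucc) (by
      rw [Fintype.card_prod, Fintype.card_fin]
      exact hl) (fun c hc => ?_) c
  · rw [key]
    exact ⟨hall c, fun h x => h _ _⟩
  · -- the kernel consists of relations
    have h1 := hall c hc
    set m : Fin 4 → Fin 4 → ℤ := fun i j => c (f.symm (i, j)) * d (f.symm (i, j)) with hm
    have h2 : ∀ i j, m i j - m i (j + 1) - (m (i + 1) j - m (i + 1) (j + 1)) = 0 := by
      intro i j
      rw [← h1 i j, sum_sd]
    have h3 : ∀ i j, m i j = m i 0 + (m 0 j - m 0 0) := by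
      have e00 := h2 0 0
      have e01 := h2 0 1
      have e02 := h2 0 2
      have e10 := h2 1 0
      have e11 := h2 1 1
      have e12 := h2 1 2
      have e20 := h2 2 0
      have e21 := h2 2 1
      have e22 := h2 2 2
      simp only [zero_add, show (1 : Fin 4) + 1 = 2 from rfl, show (2 : Fin 4) + 1 = 3 from rfl]
        at e00 e01 e02 e10 e11 e12 e20 e21 e22
      intro i j
      fin_cases i <;> fin_cases j <;> simp only [Fin.zero_eta, Fin.mk_one, Fin.reduceFinMk] <;>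
        linarith
    have h4 : c = fun x => (∑ i, m i 0 * (if (f x).1 = i then d x else 0)) +
        ∑ j, (m 0 j - m 0 0) * (if (f x).2 = j then d x else 0) := by
      funext x
      simp only [mul_ite, mul_zero]
      rw [Finset.sum_ite_eq, Finset.sum_ite_eq, if_pos (Finset.mem_univ _),
        if_pos (Finset.mem_univ _), ← add_mul, ← h3]
      have h5 : m (f x).1 (f x).2 = c x * d x := by
        simp only [hm, Prod.mk.eta, f.symm_apply_apply]
      rw [h5, mul_assoc, hdd, mul_one]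
    rw [h4]
    exact Rel.add (Rel.sum Finset.univ _ _ fun i _ => hrow i)
      (Rel.sum Finset.univ _ _ fun j _ => hcol j)

/-- **The form of a grid.** -/
theorem formBd_grid (hM : IsPModular p M) (hb : IsPBlock M b) (hl : 9 ≤ blockRank p b)
    (f : b ≃ Fin 4 × Fin 4) {d : b → ℤ} (hd : ∀ x, d x = 1 ∨ d x = -1)
    (hrow : ∀ i, Rel p b (fun x => if (f x).1 = i then d x else 0))
    (hcol : ∀ j, Rel p b (fun x => if (f x).2 = j then d x else 0)) : FormBd p b 16 := by
  classical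
  have hrel := grid_rel hM hb hl f hd hrow hcol
  have hdd : ∀ x, d x * d x = 1 := by
    intro x
    rcases hd x with h | h <;> rw [h] <;> norm_num
  have key : ∀ (c : b → ℤ) (x : Fin 4 × Fin 4),
      ∑ ψ : b, (c ψ : ℝ) * ((1 / 2 : ℝ) * (sd f d ψ x.1 x.2 : ℝ)) =
        (1 / 2 : ℝ) * ((∑ ψ, c ψ * sd f d ψ x.1 x.2 : ℤ) : ℝ) := by
    intro c x
    push_cast
    rw [Finset.mul_sum]
    exact Finset.sum_congr rfl fun ψ _ => by ring
  refine IsForm.formBd (κ := Fin 4 × Fin 4) (T := fun ψ x => (1 / 2 : ℝ) * (sd f d ψ x.1 x.2 : ℝ))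
    ⟨?_, ?_, ?_⟩
  · intro c hc x
    rw [key, (hrel c).1 hc]
    simp
  · intro c hc
    simp only [key]
    set D : Fin 4 → Fin 4 → ℤ := fun i j => ∑ ψ, c ψ * sd f d ψ i j with hD
    have h0 : ∃ i j, D i j ≠ 0 := by
      by_contra h
      push Not at h
      exact hc ((hrel c).2 h)
    have hc1 : ∀ j, ∑ i, D i j = 0 := by
      intro j
      rw [hD, Finset.sum_comm]
      refine Finset.sum_eq_zero fun ψ _ => ?_
      have h1 : ∀ i, c ψ * sd f d ψ i j = (c ψ * d ψ * df j (f ψ).2) * df i (f ψ).1 := by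
        intro i
        rw [sd]; ring
      rw [Finset.sum_congr rfl fun i _ => h1 i, ← Finset.mul_sum, sum_df, mul_zero]
    have hr1 : ∀ i, ∑ j, D i j = 0 := by
      intro i
      rw [hD, Finset.sum_comm]
      refine Finset.sum_eq_zero fun ψ _ => ?_
      have h1 : ∀ j, c ψ * sd f d ψ i j = (c ψ * d ψ * df i (f ψ).1) * df j (f ψ).2 := by
        intro i
        rw [sd]; ring
      rw [Finset.sum_congr rfl fun i _ => h1 i, ← Finset.mul_sum, sum_df, mul_zero]
    have h4 := four_le hr1 hc1 h0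
    have h5 : ∑ x : Fin 4 × Fin 4, ((1 / 2 : ℝ) * (D x.1 x.2 : ℝ)) ^ 2 =
        (1 / 4 : ℝ) * ((∑ i, ∑ j, D i j ^ 2 : ℤ) : ℝ) := by
      rw [Fintype.sum_prod_type]
      push_cast
      rw [Finset.mul_sum]
      refine Finset.sum_congr rfl fun i _ => ?_
      rw [Finset.mul_sum]
      exact Finset.sum_congr rfl fun j _ => by ring
    rw [h5]
    have h6 : (4 : ℝ) ≤ ((∑ i, ∑ j, D i j ^ 2 : ℤ) : ℝ) := by exact_mod_cast h4
    linarith
  · have h1 : ∀ ψ : b, ∑ x : Fin 4 × Fin 4, ((1 / 2 : ℝ) * (sd f d ψ x.1 x.2 : ℝ)) ^ 2 = 1 := by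
      intro ψ
      have h2 : ∀ x : Fin 4 × Fin 4, ((1 / 2 : ℝ) * (sd f d ψ x.1 x.2 : ℝ)) ^ 2 =
          (1 / 4 : ℝ) * (((d ψ * d ψ) * (df x.1 (f ψ).1 ^ 2 * df x.2 (f ψ).2 ^ 2) : ℤ) : ℝ) := by
        intro x
        rw [sd]
        push_cast
        ring
      rw [Finset.sum_congr rfl fun x _ => h2 x, ← Finset.mul_sum, hdd, Fintype.sum_prod_type]
      simp only [one_mul]
      have h3 : ∑ i : Fin 4, ∑ j : Fin 4, (((df i (f ψ).1 ^ 2 * df j (f ψ).2 ^ 2 : ℤ)) : ℝ) =
          (((∑ i, df i (f ψ).1 ^ 2) * (∑ j, df j (f ψ).2 ^ 2) : ℤ) : ℝ) := by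
        rw [Finset.sum_mul_sum]
        push_cast
        rfl
      rw [h3, sum_df_sq, sum_df_sq]
      norm_num
    rw [Finset.sum_congr rfl fun ψ _ => h1 ψ, Finset.sum_const, Finset.card_univ,
      Fintype.card_congr f]
    simp

end Cfsg.Agent.H618.GridForm
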