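import Mathlib
import Cfsg.Agent.H617.StarFive

/-!
# Star operators of functions invariant under the inertial quotient

`a = (P, e)` maximal, `P` abelian, `autG a ≤ Aut P` the inertial quotient.  For a function `η` on
`P` invariant under `autG a`, `phi η χ ψ` is the inner product of `star η χ` with `ψ`.

* `phi_eq`: `phi η χ ψ = ∑ η v * |orbit of v|⁻¹ * ctr v χ ψ`;
* `phi_dl`: for the indicator of the orbit of `u` this is `ctr u χ ψ`;
* `phi_one`, `sum_phi`: it is multiplicative in `η`;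
* `int_sub`: integrality for the indicator of an invariant subgroup;
* `sum_phi_self`: the trace.
-/

set_option autoImplicit false
set_option linter.unusedSectionVars false

open Cfsg
open scoped ComplexConjugate

namespace Cfsg.Agent.H618.StarGen

open Cfsg.Agent.H651 Cfsg.Agent.H649 Cfsg.Agent.Characters
open Cfsg.Agent.H652.DoubleCount Cfsg.Agent.H645.FusCount Cfsg.Agent.H650
open Cfsg.Agent.H645.TraceForm Cfsg.Agent.H645.LocMono Cfsg.Agent.H645.Watanabe
open Cfsg.Agent.H652.Ctr Cfsg.Agent.H613.RegGram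
open Cfsg.Agent.H617.AbelRank Cfsg.Agent.H617.StarAut

universe u

variable {G : Type u} [Group G] [Fintype G] {p : ℕ} [Fact p.Prime] {M : Ideal AlgInt} [M.IsPrime]

/-- The functions on `P` invariant under the inertial quotient. -/
def Inv (a : BrauerPairIdx G) (η : a.1 → ℂ) : Prop := ∀ α ∈ autG a, ∀ v, η (α v) = η v

open Classical in
/-- Extension by zero. -/
noncomputable def xt {a : BrauerPairIdx G} (η : a.1 → ℂ) (g : G) : ℂ :=
  if h : g ∈ a.1 then η ⟨g, h⟩ else 0

theorem xt_coe {a : BrauerPairIdx G} (η : a.1 → ℂ) (v : a.1) : xt η (v : G) = η v := by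
  rw [xt, dif_pos v.2]

theorem xt_mem {a : BrauerPairIdx G} (η : a.1 → ℂ) {g : G} (h : g ∈ a.1) :
    xt η g = η ⟨g, h⟩ := by
  rw [xt, dif_pos h]

/-- The length of the orbit of `v`. -/
noncomputable def osz (a : BrauerPairIdx G) (v : a.1) : ℕ :=
  Nat.card (MulAction.orbit (autG a) v)

/-- The inner product of `star η χ` with `ψ`. -/
noncomputable def phi (p : ℕ) (M : Ideal AlgInt) {a : BrauerPairIdx G} (η : a.1 → ℂ)
    (χ ψ : G → ℂ) : ℂ := classInner (H651.star p M a (xt η) χ) ψ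

open Classical in
/-- The indicator of the orbit of `u`. -/
noncomputable def dl {a : BrauerPairIdx G} (u v : a.1) : ℂ :=
  if v ∈ MulAction.orbit (autG a) u then 1 else 0

theorem mem_orbit_iff {a : BrauerPairIdx G} {u v : a.1} :
    v ∈ MulAction.orbit (autG a) u ↔ ∃ α ∈ autG a, α u = v := by
  constructor
  · rintro ⟨⟨α, hα⟩, h⟩
    exact ⟨α, hα, h⟩
  · rintro ⟨α, hα, h⟩
    exact ⟨⟨α, hα⟩, h⟩

theorem osz_pos {a : BrauerPairIdx G} (v : a.1) : 0 < osz a v := by
  have : Finite (MulAction.orbit (autG a) v) := Finite.of_injective _ Subtype.val_injective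
  have : Nonempty (MulAction.orbit (autG a) v) := ⟨⟨v, MulAction.mem_orbit_self v⟩⟩
  exact Nat.card_pos

theorem orbit_aut {a : BrauerPairIdx G} {α : MulAut a.1} (hα : α ∈ autG a) (v : a.1) :
    MulAction.orbit (autG a) (α v) = MulAction.orbit (autG a) v :=
  MulAction.orbit_eq_iff.2 (mem_orbit_iff.2 ⟨α, hα, rfl⟩)

theorem inv_dl {a : BrauerPairIdx G} (u : a.1) : Inv a (dl u) := by
  classical
  intro α hα v
  have h1 : α v ∈ MulAction.orbit (autG a) u ↔ v ∈ MulAction.orbit (autG a) u := by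
    rw [← MulAction.orbit_eq_iff, ← MulAction.orbit_eq_iff, orbit_aut hα]
  simp only [dl, h1]

theorem Inv.mul {a : BrauerPairIdx G} {η η' : a.1 → ℂ} (h : Inv a η) (h' : Inv a η') :
    Inv a (fun v => η v * η' v) := fun α hα v => by
  change η (α v) * η' (α v) = η v * η' v
  rw [h α hα, h' α hα]

theorem Inv.add {a : BrauerPairIdx G} {η η' : a.1 → ℂ} (h : Inv a η) (h' : Inv a η') :
    Inv a (fun v => η v + η' v) := fun α hα v => by
  change η (α v) + η' (α v) = η v + η' v
  rw [h α hα, h' α hα]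

theorem Inv.conj {a : BrauerPairIdx G} {η : a.1 → ℂ} (h : Inv a η) :
    Inv a (fun v => conj (η v)) := fun α hα v => by
  change (starRingEnd ℂ) (η (α v)) = (starRingEnd ℂ) (η v)
  rw [h α hα]

theorem inv_const {a : BrauerPairIdx G} (c : ℂ) : Inv a (fun _ => c) := fun _ _ _ => rfl

theorem card_mul_rel {H K : Subgroup G} (h : H ≤ K) :
    Nat.card H * H.relIndex K = Nat.card K := by
  have h1 := Subgroup.card_mul_index (H.subgroupOf K)
  rwa [Nat.card_congr (Subgroup.subgroupOfEquivOfLe h).toEquiv] at h1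

theorem phi_irr {a : BrauerPairIdx G} (η : a.1 → ℂ) (χ ψ : G → ℂ) :
    phi p M η χ ψ = classInner (H651.star p M a (xt η) χ) ψ := rfl

section

variable (hM : IsPModular p M) {B : Set (IrrCharacter G)} {a : BrauerPairIdx G}
  (hmax : IsMaximalBrauerPair p M B a.1 a.2) (hab : ∀ x ∈ a.1, ∀ y ∈ a.1, x * y = y * x)

include hM hmax hab

theorem isStable_xt {η : a.1 → ℂ} (hη : Inv a η) : IsStable p M a (xt η) := by
  intro u x b hu hb h1 h2
  obtain ⟨y, hy, hxy⟩ := (ctrl_of_abelian hM hmax hab).fus u x b hu hb h1 h2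
  obtain ⟨α, hα, h⟩ := exists_autG hM hmax hab hy
  have h3 : (x * u * x⁻¹) = ((α ⟨u, hu⟩ : a.1) : G) := by rw [hxy, h]
  rw [h3, xt_coe, hη α hα, xt_mem η hu]

theorem osz_mul (v : a.1) :
    osz a v * Nat.card (stab a ⊓ Subgroup.centralizer ({(v : G)} : Set G) : Subgroup G) =
      Nat.card (stab a) := by
  classical
  have hCS : Subgroup.centralizer (a.1 : Set G) ≤ stab a := centralizer_le_stab hM hmax hab
  have hCv : Subgroup.centralizer (a.1 : Set G) ≤
      stab a ⊓ Subgroup.centralizer ({(v : G)} : Set G) := by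
    refine le_inf hCS fun t ht => ?_
    rw [Subgroup.mem_centralizer_singleton_iff]
    exact (Subgroup.mem_centralizer_iff.1 ht v v.2).symm
  have h1 := card_mul_rel hCS
  have h2 := card_mul_rel hCv
  rw [← card_autG hM hmax hab] at h1
  set S : Subgroup (MulAut a.1) := autG a ⊓ MulAction.stabilizer (MulAut a.1) v with hS
  have h3 := relIndex_inf hM hmax hab v.2 S (fun α => by
    rw [hS, Subgroup.mem_inf, MulAction.mem_stabilizer_iff]
    rfl)
  rw [h3] at h2
  have h4 : Nat.card S = Nat.card (MulAction.stabilizer (autG a) v) := by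
    refine Nat.card_congr
      { toFun := fun α => ⟨⟨α.1, α.2.1⟩, α.2.2⟩
        invFun := fun α => ⟨α.1.1, α.1.2, α.2⟩
        left_inv := fun _ => rfl
        right_inv := fun _ => rfl }
  have h5 : osz a v * Nat.card (MulAction.stabilizer (autG a) v) = Nat.card (autG a) := by
    rw [osz, ← Nat.card_prod]
    exact Nat.card_congr (MulAction.orbitProdStabilizerEquivGroup (autG a) v)
  rw [← h2, ← h1, h4, ← h5]
  ring

theorem ctr_autG {α : MulAut a.1} (hα : α ∈ autG a) (v : a.1) {χ ψ : G → ℂ}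
    (hχ : IsClassFunction G χ) (hψ : IsClassFunction G ψ) :
    ctr p ((α v : a.1) : G) (bP p M a ((α v : a.1) : G)) χ ψ =
      ctr p (v : G) (bP p M a (v : G)) χ ψ := by
  obtain ⟨t, ht, h2⟩ := (mem_autG hM hmax hab).1 hα
  rw [h2, Cfsg.Agent.H645.FusCount.bP_conj hM hmax.1.1 (ctrl_of_abelian hM hmax hab) v.2 ht,
    ctr_conj p t (v : G) _ hχ hψ]

theorem phi_eq [Fintype a.1] {η : a.1 → ℂ} (hη : Inv a η) {χ ψ : G → ℂ}
    (hχ : IsClassFunction G χ) (hψ : IsClassFunction G ψ) :
    phi p M η χ ψ = ∑ v : a.1, η v *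
      ((osz a v : ℂ)⁻¹ * ctr p (v : G) (bP p M a (v : G)) χ ψ) := by
  rw [phi, classInner_star hM hmax.1.1 (ctrl_of_abelian hM hmax hab)
    (isStable_xt hM hmax hab hη) hχ hψ, Finset.mul_sum]
  refine Finset.sum_congr rfl fun v _ => ?_
  have h1 : (osz a v : ℂ) * (Nat.card (stab a ⊓ Subgroup.centralizer ({(v : G)} : Set G) :
      Subgroup G) : ℂ) = Nat.card (stab a) := by exact_mod_cast osz_mul hM hmax hab v
  have h2 : (osz a v : ℂ) ≠ 0 := by exact_mod_cast (osz_pos v).ne'
  have h3 : (Nat.card (stab a) : ℂ) ≠ 0 := by exact_mod_cast Nat.card_pos.ne'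
  rw [xt_coe, ← h1] at *
  have h4 : (Nat.card (stab a ⊓ Subgroup.centralizer ({(v : G)} : Set G) :
      Subgroup G) : ℂ) ≠ 0 := fun h => h3 (by rw [h, mul_zero])
  field_simp

theorem phi_dl (u : a.1) {χ ψ : G → ℂ} (hχ : IsClassFunction G χ) (hψ : IsClassFunction G ψ) :
    phi p M (dl u) χ ψ = ctr p (u : G) (bP p M a (u : G)) χ ψ := by
  classical
  have := Fintype.ofFinite a.1
  rw [phi_eq hM hmax hab (inv_dl u) hχ hψ]
  have h1 : ∀ v : a.1, dl u v * ((osz a v : ℂ)⁻¹ * ctr p (v : G) (bP p M a (v : G)) χ ψ) =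
      if v ∈ MulAction.orbit (autG a) u then
        (osz a u : ℂ)⁻¹ * ctr p (u : G) (bP p M a (u : G)) χ ψ else 0 := by
    intro v
    by_cases h : v ∈ MulAction.orbit (autG a) u
    · rw [dl, if_pos h, if_pos h, one_mul]
      obtain ⟨α, hα, rfl⟩ := mem_orbit_iff.1 h
      rw [ctr_autG hM hmax hab hα u hχ hψ, osz, orbit_aut hα]
      rfl
    · rw [dl, if_neg h, if_neg h, zero_mul]
  rw [Finset.sum_congr rfl fun v _ => h1 v, ← Finset.sum_filter, Finset.sum_const, nsmul_eq_mul]
  have h2 : ((Finset.univ.filter fun v : a.1 => v ∈ MulAction.orbit (autG a) u).card : ℂ) =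
      osz a u := by
    rw [osz, Nat.card_eq_fintype_card, Fintype.card_subtype]
  have h3 : (osz a u : ℂ) ≠ 0 := by exact_mod_cast (osz_pos u).ne'
  rw [h2, ← mul_assoc, mul_inv_cancel₀ h3, one_mul]

/-- Orthonormality. -/
theorem phi_one {χ : IrrCharacter G} (hχ : χ ∈ B) (ψ : IrrCharacter G)
    [Decidable (χ = ψ)] :
    phi p M (a := a) (fun _ => 1) (χ : G → ℂ) (ψ : G → ℂ) = if χ = ψ then 1 else 0 := by
  rw [phi, star_congr hM hmax (isStable_xt hM hmax hab (inv_const 1)) (isStable_const 1)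
    (fun g hg => xt_mem _ hg) hχ, star_one hM hmax hχ]
  split_ifs with h
  · rw [h]
    exact Core.classInner_irr_self ψ.2
  · exact Core.classInner_irr_ne χ.2 ψ.2 fun h' => h (Subtype.ext h')

/-- Multiplicativity. -/
theorem sum_phi [Fintype B] {η η' : a.1 → ℂ} (hη : Inv a η) (hη' : Inv a η')
    {χ χ' : IrrCharacter G} (hχ : χ ∈ B) :
    ∑ ψ : B, phi p M η (χ : G → ℂ) (ψ : G → ℂ) * conj (phi p M η' (χ' : G → ℂ) (ψ : G → ℂ)) =
      phi p M (fun v => η v * conj (η' v)) (χ : G → ℂ) (χ' : G → ℂ) := by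
  classical
  have := Core.finite_irr (G := G)
  have := Fintype.ofFinite (IrrCharacter G)
  have hs := isStable_xt hM hmax hab hη
  have hs' := isStable_xt hM hmax hab hη'
  have hcχ := Core.isIrr_isClassFunction χ.2
  have hcχ' := Core.isIrr_isClassFunction χ'.2
  have h1 := Core.classInner_eq_sum (isClassFunction_star hs hcχ) (isClassFunction_star hs' hcχ')
  rw [sum_eq_sum_coe B] at h1
  · rw [classInner_star_star hM hs hs' hcχ hcχ'] at h1
    have h2 : H651.star p M a (fun g => xt η g * conj (xt η' g)) (χ : G → ℂ) =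
        H651.star p M a (xt fun v => η v * conj (η' v)) (χ : G → ℂ) := by
      refine star_congr hM hmax (isStable_mul hs (isStable_conj hs'))
        (isStable_xt hM hmax hab (hη.mul hη'.conj)) (fun g hg => ?_) hχ
      rw [xt_mem _ hg, xt_mem _ hg, xt_mem _ hg]
    rw [h2] at h1
    rw [phi, h1]
    rfl
  · intro ζ hζ
    rw [classInner_star_of_notMem hM hmax.1.2.1 hχ hζ, zero_mul]

/-- Integrality. -/
theorem int_phi {η : a.1 → ℂ} (hη : Inv a η) (hgen : IsGeneralizedCharacter a.1 η)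
    (χ ψ : IrrCharacter G) : ∃ n : ℤ, phi p M η (χ : G → ℂ) (ψ : G → ℂ) = n := by
  have h1 : IsGeneralizedCharacter a.1 (fun x : a.1 => xt η (x : G)) := by
    have : (fun x : a.1 => xt η (x : G)) = η := funext fun x => xt_coe η x
    rw [this]
    exact hgen
  have h2 := star_isGeneralizedCharacter hM hmax h1 (isStable_xt hM hmax hab hη)
    (Core.isIrr_isCharacter χ.2)
  obtain ⟨n, hn⟩ := classInner_isInt h2 (Core.isIrr_isCharacter ψ.2)
  exact ⟨n, hn⟩

/-- Integrality for the indicator of an invariant subgroup. -/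
theorem int_sub (K : Subgroup a.1) [DecidablePred (· ∈ K)]
    (hK : ∀ α ∈ autG a, ∀ v ∈ K, α v ∈ K) (χ ψ : IrrCharacter G) :
    ∃ n : ℤ, phi p M (a := a) (fun v => if v ∈ K then (K.index : ℂ) else 0)
      (χ : G → ℂ) (ψ : G → ℂ) = n := by
  classical
  have hab' : ∀ x y : a.1, x * y = y * x := fun x y => Subtype.ext (hab x x.2 y y.2)
  have hcomm : ∀ x y : a.1, x⁻¹ * (y * x * y⁻¹) ∈ K := by
    intro x y
    rw [hab' y x, mul_assoc, mul_inv_cancel, mul_one, inv_mul_cancel]
    exact K.one_mem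
  have hfin : Finite (ann K) := by
    have hc : Nat.card (ann K) ≠ 0 := by
      rw [card_ann hcomm]
      exact K.index_ne_zero_of_finite
    exact (Nat.card_ne_zero.1 hc).2
  have := Fintype.ofFinite (ann K)
  have hκ' : ∀ v : a.1, (if v ∈ K then (K.index : ℂ) else 0) =
      ∑ l : ann K, (((l : a.1 →* ℂˣ) v : ℂˣ) : ℂ) := by
    intro v
    rw [Cfsg.Agent.H645.FourierKer.sum_ann_apply hab' K v, ← Nat.card_eq_fintype_card,
      card_ann hcomm]
  refine int_phi hM hmax hab ?_ ?_ χ ψ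
  · intro α hα v
    have h1 : α v ∈ K ↔ v ∈ K := by
      refine ⟨fun h => ?_, hK α hα v⟩
      have h2 := hK α⁻¹ ((autG a).inv_mem hα) _ h
      rwa [← MulAut.mul_apply, inv_mul_cancel, MulAut.one_apply] at h2
    simp only [h1]
  · have h1 : (fun v : a.1 => if v ∈ K then (K.index : ℂ) else 0) = ∑ l : ann K,
        fun x : a.1 => (((l : a.1 →* ℂˣ) x : ℂˣ) : ℂ) := by
      funext x
      rw [Finset.sum_apply, hκ']
    rw [h1]
    refine Finset.sum_induction _ _ (fun _ _ => Brauer.isGeneralizedCharacter_add)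
      Brauer.isGeneralizedCharacter_zero fun l _ => ?_
    exact Brauer.isGeneralizedCharacter_of_isCharacter
      (CharDeep.LinearChar.isCharacter_of_hom _)

/-- The trace. -/
theorem sum_phi_self [Fintype B] [Fintype a.1] {η : a.1 → ℂ} (hη : Inv a η) :
    ∑ χ : B, phi p M η (χ : G → ℂ) (χ : G → ℂ) =
      ∑ v : a.1, η v * ((osz a v : ℂ)⁻¹ * blockRank p (bP p M a (v : G)).2) := by
  have h1 : ∀ χ : B, phi p M η (χ : G → ℂ) (χ : G → ℂ) = ∑ v : a.1, η v *
      ((osz a v : ℂ)⁻¹ * ctr p (v : G) (bP p M a (v : G)) (χ : G → ℂ) (χ : G → ℂ)) := fun χ =>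
    phi_eq hM hmax hab hη (Core.isIrr_isClassFunction χ.1.2) (Core.isIrr_isClassFunction χ.1.2)
  rw [Finset.sum_congr rfl fun χ _ => h1 χ, Finset.sum_comm]
  refine Finset.sum_congr rfl fun v _ => ?_
  rw [← sum_ctr_self hM hmax v.2, ← Finset.mul_sum, ← Finset.mul_sum]

/-- Orthogonality of the contributions. -/
theorem sum_ctr_same [Fintype B] (u : a.1) {χ χ' : IrrCharacter G} (hχ : χ ∈ B) :
    ∑ ψ : B, ctr p (u : G) (bP p M a (u : G)) (χ : G → ℂ) (ψ : G → ℂ) *
      conj (ctr p (u : G) (bP p M a (u : G)) (χ' : G → ℂ) (ψ : G → ℂ)) =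
      ctr p (u : G) (bP p M a (u : G)) (χ : G → ℂ) (χ' : G → ℂ) := by
  have h1 := sum_phi hM hmax hab (inv_dl u) (inv_dl u) (χ' := χ') hχ
  have h2 : (fun v => dl u v * conj (dl u v)) = dl u := by
    funext v
    rw [dl]
    split_ifs <;> simp
  rw [h2, phi_dl hM hmax hab u (Core.isIrr_isClassFunction χ.2)
    (Core.isIrr_isClassFunction χ'.2)] at h1
  rw [← h1]
  refine Finset.sum_congr rfl fun ψ _ => ?_
  rw [phi_dl hM hmax hab u (Core.isIrr_isClassFunction χ.2) (Core.isIrr_isClassFunction ψ.1.2),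
    phi_dl hM hmax hab u (Core.isIrr_isClassFunction χ'.2) (Core.isIrr_isClassFunction ψ.1.2)]

theorem sum_ctr_ne [Fintype B] {u u' : a.1} (h : u' ∉ MulAction.orbit (autG a) u)
    {χ χ' : IrrCharacter G} (hχ : χ ∈ B) :
    ∑ ψ : B, ctr p (u : G) (bP p M a (u : G)) (χ : G → ℂ) (ψ : G → ℂ) *
      conj (ctr p (u' : G) (bP p M a (u' : G)) (χ' : G → ℂ) (ψ : G → ℂ)) = 0 := by
  classical
  have := Fintype.ofFinite a.1
  have h1 := sum_phi hM hmax hab (inv_dl u) (inv_dl u') (χ' := χ') hχ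
  have h2 : (fun v => dl u v * conj (dl u' v)) = fun _ => 0 := by
    funext v
    rw [dl, dl]
    by_cases h3 : v ∈ MulAction.orbit (autG a) u
    · have h4 : v ∉ MulAction.orbit (autG a) u' := by
        intro h5
        apply h
        rw [← MulAction.orbit_eq_iff] at h3 h5
        rw [← h3, h5]
        exact MulAction.mem_orbit_self u'
      rw [if_neg h4, map_zero, mul_zero]
    · rw [if_neg h3, zero_mul]
  rw [h2, phi_eq hM hmax hab (inv_const 0) (Core.isIrr_isClassFunction χ.2)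
    (Core.isIrr_isClassFunction χ'.2)] at h1
  simp only [zero_mul, Finset.sum_const_zero] at h1
  rw [← h1]
  refine Finset.sum_congr rfl fun ψ _ => ?_
  rw [phi_dl hM hmax hab u (Core.isIrr_isClassFunction χ.2) (Core.isIrr_isClassFunction ψ.1.2),
    phi_dl hM hmax hab u' (Core.isIrr_isClassFunction χ'.2) (Core.isIrr_isClassFunction ψ.1.2)]

end

end Cfsg.Agent.H618.StarGen
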