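import Mathlib
import Cfsg.Agent.H618.StarGen
import Cfsg.Agent.H618.CoreR
import Cfsg.Agent.H618.AutNine
import Cfsg.Agent.H632.TwoChars

/-!
# Blocks with defect group `2 ^ 4` and inertial quotient of order three with four fixed points

`lemmaR`: the Gram matrix of such a block.
`exists_cols`: contributions in terms of integral rows.
-/

set_option autoImplicit false
set_option linter.unusedSectionVars false

open Cfsg
open scoped ComplexConjugate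

namespace Cfsg.Agent.H618.LemmaR

open Cfsg.Agent.H651 Cfsg.Agent.H649 Cfsg.Agent.Characters
open Cfsg.Agent.H652.DoubleCount Cfsg.Agent.H645.FusCount Cfsg.Agent.H650
open Cfsg.Agent.H645.TraceForm Cfsg.Agent.H645.LocMono Cfsg.Agent.H645.Watanabe
open Cfsg.Agent.H652.Ctr Cfsg.Agent.H652.CtrOne Cfsg.Agent.H613.RegGram
open Cfsg.Agent.H613.Contrib Cfsg.Agent.H613.ContribVal
open Cfsg.Agent.H617.AbelRank Cfsg.Agent.H617.StarAut Cfsg.Agent.H617.StarCols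
open Cfsg.Agent.H617.RankOneCol
open Cfsg.Agent.H618.StarGen

universe u

variable {G : Type u} [Group G] [Fintype G] {M : Ideal AlgInt} [M.IsPrime]

theorem dl_self {a : BrauerPairIdx G} (u : a.1) : dl u u = 1 := by
  rw [dl, if_pos (MulAction.mem_orbit_self u)]

theorem dl_of_mem {a : BrauerPairIdx G} {u v : a.1} (h : v ∈ MulAction.orbit (autG a) u) :
    dl u v = 1 := by rw [dl, if_pos h]

theorem dl_of_notMem {a : BrauerPairIdx G} {u v : a.1}
    (h : v ∉ MulAction.orbit (autG a) u) : dl u v = 0 := by rw [dl, if_neg h]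

theorem one_notMem {a : BrauerPairIdx G} {u : a.1} (hu : u ≠ 1) :
    (1 : a.1) ∉ MulAction.orbit (autG a) u := by
  intro h
  obtain ⟨α, -, hα⟩ := mem_orbit_iff.1 h
  rw [← map_one α] at hα
  exact hu (α.injective hα)

theorem notMem_one {a : BrauerPairIdx G} {v : a.1} (hv : v ≠ 1) :
    v ∉ MulAction.orbit (autG a) (1 : a.1) := by
  intro h
  obtain ⟨α, -, hα⟩ := mem_orbit_iff.1 h
  rw [map_one] at hα
  exact hv hα.symm

open Classical in
/-- The indicator of a stable subgroup which is the union of two orbits. -/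
theorem dl_add {a : BrauerPairIdx G} {V : Subgroup a.1} {u : a.1}
    (hst : ∀ α ∈ autG a, ∀ v ∈ V, α v ∈ V) (hu : u ∈ V) (hu1 : u ≠ 1)
    (horb : ∀ v ∈ V, v ≠ 1 → v ∈ MulAction.orbit (autG a) u) (v : a.1) :
    dl 1 v + dl u v = if v ∈ V then 1 else 0 := by
  by_cases hv : v ∈ V
  · rw [if_pos hv]
    by_cases hv1 : v = 1
    · rw [hv1, dl_self, dl_of_notMem (one_notMem hu1), add_zero]
    · rw [dl_of_notMem (notMem_one hv1), dl_of_mem (horb v hv hv1), zero_add]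
  · rw [if_neg hv, dl_of_notMem (notMem_one fun h => hv (by rw [h]; exact V.one_mem)), dl_of_notMem, add_zero]
    intro h
    obtain ⟨α, hα, rfl⟩ := mem_orbit_iff.1 h
    exact hv (hst α hα u hu)

section

variable (hM : IsPModular 2 M) {B : Set (IrrCharacter G)} {a : BrauerPairIdx G}
  (hmax : IsMaximalBrauerPair 2 M B a.1 a.2) (hab : ∀ x ∈ a.1, ∀ y ∈ a.1, x * y = y * x)

include hM hmax hab

/-- Integrality for a stable subgroup of index four which is the union of two orbits. -/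
theorem exists_int {V : Subgroup a.1} {u : a.1}
    (hst : ∀ α ∈ autG a, ∀ v ∈ V, α v ∈ V) (hi : V.index = 4) (hu : u ∈ V) (hu1 : u ≠ 1)
    (horb : ∀ v ∈ V, v ≠ 1 → v ∈ MulAction.orbit (autG a) u) (χ ψ : IrrCharacter G) :
    ∃ n : ℤ, (n : ℂ) = 4 * (ctr 2 ((1 : a.1) : G) (bP 2 M a ((1 : a.1) : G)) (χ : G → ℂ)
      (ψ : G → ℂ) + ctr 2 (u : G) (bP 2 M a (u : G)) (χ : G → ℂ) (ψ : G → ℂ)) := by
  classical
  have := Fintype.ofFinite a.1
  have hcχ := Core.isIrr_isClassFunction χ.2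
  have hcψ := Core.isIrr_isClassFunction ψ.2
  obtain ⟨n, hn⟩ := int_sub hM hmax hab V hst χ ψ
  refine ⟨n, ?_⟩
  rw [← hn, hi, ← phi_dl hM hmax hab (1 : a.1) hcχ hcψ, ← phi_dl hM hmax hab u hcχ hcψ,
    phi_eq hM hmax hab (inv_dl 1) hcχ hcψ, phi_eq hM hmax hab (inv_dl u) hcχ hcψ,
    phi_eq hM hmax hab (η := fun v => if v ∈ V then ((4 : ℕ) : ℂ) else 0) (fun α hα v => ?_) hcχ hcψ,
    ← Finset.sum_add_distrib, Finset.mul_sum]
  · refine Finset.sum_congr rfl fun v _ => ?_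
    have h1 := dl_add hst hu hu1 horb v
    have h2 : (if v ∈ V then ((4 : ℕ) : ℂ) else 0) = 4 * (dl 1 v + dl u v) := by
      rw [h1]
      split_ifs <;> simp
    rw [h2]
    ring
  · have h1 : α v ∈ V ↔ v ∈ V := by
      refine ⟨fun h => ?_, hst α hα v⟩
      have h2 := hst α⁻¹ ((autG a).inv_mem hα) _ h
      rwa [← MulAut.mul_apply, inv_mul_cancel, MulAut.one_apply] at h2
    simp only [h1]

end

section

variable (hM : IsPModular 2 M) {B : Set (IrrCharacter G)} {a : BrauerPairIdx G}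
  (hmax : IsMaximalBrauerPair 2 M B a.1 a.2)

include hM hmax

/-- **The Gram matrix.** -/
theorem lemmaR (hcard : Nat.card a.1 = 16) (hel : ∀ x ∈ a.1, x * x = 1)
    (hidx : (Subgroup.centralizer (a.1 : Set G)).relIndex (stab a) = 3)
    (hW : Nat.card {w : G // w ∈ a.1 ∧ ∀ t ∈ stab a, t * w * t⁻¹ = w} = 4) :
    blockRank 2 B = 3 ∧ ∃ x : IrrCharacter G → Fin 4 → ℤ, ∀ χ ∈ B, ∀ ψ ∈ B,
      (16 : ℂ) * rg 2 (χ : G → ℂ) (ψ : G → ℂ) =
        ((4 * ∑ i, x χ i * x ψ i - (∑ i, x χ i) * (∑ i, x ψ i) : ℤ) : ℂ) := by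
  classical
  have hel' : ∀ x : a.1, x * x = 1 := fun x => Subtype.ext (hel x x.2)
  have hab : ∀ x ∈ a.1, ∀ y ∈ a.1, x * y = y * x := fun x hx y hy =>
    congrArg Subtype.val (AutNine.comm_of_el hel' ⟨x, hx⟩ ⟨y, hy⟩)
  have := Core.finite_irr (G := G)
  have := Fintype.ofFinite a.1
  have : Fintype B := Fintype.ofFinite _
  have hF : Nat.card (autG a) = 3 := by rw [card_autG hM hmax hab, hidx]
  have hfx : ∀ v : a.1, (∀ β ∈ autG a, β v = v) ↔ ∀ t ∈ stab a, t * (v : G) * t⁻¹ = v := by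
    intro v
    constructor
    · intro h t ht
      obtain ⟨α, hα, h1⟩ := exists_autG hM hmax hab ht
      rw [← h1 v, h α hα]
    · intro h β hβ
      obtain ⟨t, ht, h1⟩ := (mem_autG hM hmax hab).1 hβ
      apply Subtype.ext
      rw [h1 v, h t ht]
  have hfix : Nat.card {v : a.1 // ∀ β ∈ autG a, β v = v} = 4 := by
    rw [← hW]
    refine Nat.card_congr
      { toFun := fun v => ⟨v.1, v.1.2, (hfx v.1).1 v.2⟩
        invFun := fun w => ⟨⟨w.1, w.2.1⟩, (hfx _).2 w.2.2⟩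
        left_inv := fun _ => rfl
        right_inv := fun _ => rfl }
  obtain ⟨V, v₀, hst, hVi, hv₀, hv₀1, horb, β, hβ, hβv⟩ :=
    AutNine.exists_three hel' hcard hF hfix
  have hr1 : blockRank 2 (bP 2 M a (v₀ : G)).2 = 1 := by
    refine rank_one_of_prime hM hmax hab Nat.prime_three hidx v₀.2 fun h => hβv ?_
    exact (hfx v₀).2 h β hβ
  have hrB : blockRank 2 (bP 2 M a ((1 : a.1) : G)).2 = blockRank 2 B :=
    rank_eq hM hmax hab (1 : a.1).2 fun t _ => by simp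
  obtain ⟨w, hw⟩ := exists_col hM hmax hab v₀.2 (hel v₀ v₀.2) hr1
  rw [hcard] at hw
  have hw' : ∀ χ ψ : IrrCharacter G, (16 : ℂ) * ctr 2 (v₀ : G) (bP 2 M a (v₀ : G)) (χ : G → ℂ)
      (ψ : G → ℂ) = w χ * w ψ := fun χ ψ => by rw [← hw χ ψ]; norm_num
  have hw0 : ∀ χ ∈ B, w χ ≠ 0 := by
    intro χ hχ h0
    have h1 := hw' χ χ
    rw [h0, Int.cast_zero, zero_mul] at h1
    rcases mul_eq_zero.1 h1 with h2 | h2
    · norm_num at h2
    · exact ctr_self_ne_zero hM hmax hab v₀.2 hχ h2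
  choose m hm using fun χ ψ : IrrCharacter G =>
    exists_int hM hmax hab hst hVi hv₀ hv₀1 horb χ ψ
  have hcf : ∀ χ : IrrCharacter G, IsClassFunction G (χ : G → ℂ) := fun χ =>
    Core.isIrr_isClassFunction χ.2
  -- multiplicativity
  set η : a.1 → ℂ := fun v => dl 1 v + dl v₀ v with hη
  have hηinv : Inv a η := (inv_dl 1).add (inv_dl v₀)
  have hphi : ∀ χ ψ : IrrCharacter G, 4 * phi 2 M η (χ : G → ℂ) (ψ : G → ℂ) = m χ ψ := by
    intro χ ψ
    rw [hm, ← phi_dl hM hmax hab (1 : a.1) (hcf χ) (hcf ψ), ← phi_dl hM hmax hab v₀ (hcf χ) (hcf ψ),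
      phi_eq hM hmax hab (inv_dl 1) (hcf χ) (hcf ψ), phi_eq hM hmax hab (inv_dl v₀) (hcf χ) (hcf ψ),
      phi_eq hM hmax hab hηinv (hcf χ) (hcf ψ), ← Finset.sum_add_distrib]
    congr 1
    exact Finset.sum_congr rfl fun v _ => by rw [hη]; ring
  have hηη : (fun v => η v * conj (η v)) = η := by
    funext v
    have h1 := dl_add hst hv₀ hv₀1 horb v
    simp only [hη, h1]
    split_ifs <;> simp
  have hηd : (fun v => η v * conj (dl v₀ v)) = dl v₀ := by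
    funext v
    have h1 := dl_add hst hv₀ hv₀1 horb v
    simp only [hη, h1]
    by_cases hv : v ∈ MulAction.orbit (autG a) v₀
    · have h2 : v ∈ V := by
        obtain ⟨α, hα, rfl⟩ := mem_orbit_iff.1 hv
        exact hst α hα v₀ hv₀
      rw [dl_of_mem hv, if_pos h2]
      simp
    · rw [dl_of_notMem hv]
      simp
  have hmm0 : ∀ χ ∈ B, ∀ χ' : IrrCharacter G, ∑ ψ : B, m χ ψ * m χ' ψ = 4 * m χ χ' := by
    intro χ hχ χ'
    have h1 := sum_phi hM hmax hab hηinv hηinv (χ' := χ') hχ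
    rw [hηη] at h1
    have h2 : ((∑ ψ : B, m χ ψ * m χ' ψ : ℤ) : ℂ) = ((4 * m χ χ' : ℤ) : ℂ) := by
      push_cast
      rw [← hphi χ χ', ← h1, ← mul_assoc, Finset.mul_sum]
      refine Finset.sum_congr rfl fun ψ _ => ?_
      have h3 : ((m χ' ψ : ℤ) : ℂ) = conj ((m χ' ψ : ℤ) : ℂ) := (map_intCast _ _).symm
      rw [h3, ← hphi, ← hphi, map_mul, map_ofNat]
      ring
    exact_mod_cast h2
  have hsymm : ∀ χ ∈ B, ∀ ψ ∈ B, m χ ψ = m ψ χ := by
    intro χ hχ ψ hψ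
    have h1 := hmm0 χ hχ ψ
    have h2 := hmm0 ψ hψ χ
    have h3 : ∑ ζ : B, m χ ζ * m ψ ζ = ∑ ζ : B, m ψ ζ * m χ ζ :=
      Finset.sum_congr rfl fun ζ _ => mul_comm _ _
    linarith
  -- the trace
  have htr : ∑ χ : B, m χ χ = 4 * ((blockRank 2 B : ℤ) + 1) := by
    have h1 := sum_ctr_self hM hmax (1 : a.1).2
    have h2 := sum_ctr_self hM hmax v₀.2
    rw [hrB] at h1
    rw [hr1] at h2
    have h3 : ((∑ χ : B, m χ χ : ℤ) : ℂ) = ((4 * ((blockRank 2 B : ℤ) + 1) : ℤ) : ℂ) := by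
      push_cast
      have h4 : (1 : ℂ) = ((1 : ℕ) : ℂ) := by norm_num
      rw [h4, ← h1, ← h2, ← Finset.sum_add_distrib, Finset.mul_sum]
      exact Finset.sum_congr rfl fun χ _ => by rw [hm]
    exact_mod_cast h3
  have hnorm : ∑ χ : B, w χ ^ 2 = 16 := by
    have h2 := sum_ctr_self hM hmax v₀.2
    rw [hr1] at h2
    have h3 : ((∑ χ : B, w χ ^ 2 : ℤ) : ℂ) = ((16 : ℤ) : ℂ) := by
      push_cast
      have h4 : (16 : ℂ) = 16 * ((1 : ℕ) : ℂ) := by norm_num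
      rw [h4, ← h2, Finset.mul_sum]
      exact Finset.sum_congr rfl fun χ _ => by rw [hw', sq]
    exact_mod_cast h3
  have hmw : ∀ χ ∈ B, ∑ ψ : B, m χ ψ * w ψ = 4 * w χ := by
    intro χ hχ
    have h1 := sum_phi hM hmax hab hηinv (inv_dl v₀) (χ' := χ) hχ
    rw [hηd, phi_dl hM hmax hab v₀ (hcf χ) (hcf χ)] at h1
    have h2 : ((w χ * ∑ ψ : B, m χ ψ * w ψ : ℤ) : ℂ) = ((w χ * (4 * w χ) : ℤ) : ℂ) := by
      push_cast
      have h3 : (w χ : ℂ) * (4 * w χ) = 64 * ctr 2 (v₀ : G) (bP 2 M a (v₀ : G)) (χ : G → ℂ)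
          (χ : G → ℂ) := by linear_combination (-4 : ℂ) * hw' χ χ
      rw [h3, ← h1, Finset.mul_sum, Finset.mul_sum]
      refine Finset.sum_congr rfl fun ψ _ => ?_
      rw [phi_dl hM hmax hab v₀ (hcf χ) (hcf ψ), ← hphi]
      have h4 := congrArg conj (hw' χ ψ)
      rw [map_mul, map_mul, map_intCast, map_intCast, map_ofNat] at h4
      linear_combination (-4 * phi 2 M η (χ : G → ℂ) ((ψ : IrrCharacter G) : G → ℂ)) * h4
    have h3 : w χ * ∑ ψ : B, m χ ψ * w ψ = w χ * (4 * w χ) := by exact_mod_cast h2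
    exact mul_left_cancel₀ (hw0 χ hχ) h3
  have hl := Cfsg.Agent.H632.TwoChars.blockRank_pos hM hmax.1.2.1
  have hk := card_of_prime hM hmax hab Nat.prime_three hidx
  rw [hW, hcard] at hk
  have hk' : Fintype.card B = 4 * (blockRank 2 B + 1) := by
    rw [← Nat.card_eq_fintype_card]
    omega
  obtain ⟨hl3, hn1, cl, hcl⟩ := CoreR.coreR (ι := B) hl hk' (fun χ => w χ) (fun χ => hw0 χ χ.2)
    hnorm (fun χ ψ => m χ ψ) (fun χ ψ => hsymm χ χ.2 ψ ψ.2)
    (fun χ ψ => by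
      rw [← hmm0 χ χ.2 ψ]
      exact Finset.sum_congr rfl fun ζ _ => by rw [hsymm ζ ζ.2 ψ ψ.2])
    (by rw [htr]) (fun χ => hmw χ χ.2)
  refine ⟨hl3, fun χ i => if h : χ ∈ B then (if cl ⟨χ, h⟩ = i then w χ else 0) else 0, ?_⟩
  intro χ hχ ψ hψ
  have h1 := ctr_one hM hmax hab hχ ψ
  have h2 := hm χ ψ
  have h3 : (16 : ℂ) * rg 2 (χ : G → ℂ) (ψ : G → ℂ) = ((4 * m χ ψ - w χ * w ψ : ℤ) : ℂ) := by
    push_cast
    rw [h2, ← hw', ← h1]
    simp only [OneMemClass.coe_one]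
    ring
  rw [h3]
  congr 1
  simp only [dif_pos hχ, dif_pos hψ]
  have h4 := hcl ⟨χ, hχ⟩ ⟨ψ, hψ⟩
  simp only at h4
  rw [h4]
  have e1 : ∑ i, (if cl ⟨χ, hχ⟩ = i then w χ else 0) = w χ := by
    rw [Finset.sum_ite_eq, if_pos (Finset.mem_univ _)]
  have e2 : ∑ i, (if cl ⟨ψ, hψ⟩ = i then w ψ else 0) = w ψ := by
    rw [Finset.sum_ite_eq, if_pos (Finset.mem_univ _)]
  have e3 : ∑ i, (if cl ⟨χ, hχ⟩ = i then w χ else 0) * (if cl ⟨ψ, hψ⟩ = i then w ψ else 0) =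
      if cl ⟨χ, hχ⟩ = cl ⟨ψ, hψ⟩ then w χ * w ψ else 0 := by
    simp only [ite_mul, zero_mul]
    rw [Finset.sum_ite_eq, if_pos (Finset.mem_univ _)]
    by_cases h : cl ⟨χ, hχ⟩ = cl ⟨ψ, hψ⟩
    · rw [if_pos h, if_pos h.symm]
    · rw [if_neg h, if_neg fun h' => h h'.symm, mul_zero]
  rw [e1, e2, e3]

/-- Contributions in terms of integral rows. -/
theorem exists_cols {v : G} (hv : v ∈ a.1)
    (hvv : v * v = 1) [Fintype (Subgroup.centralizer ((bP 2 M a v).1 : Set G))]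
    {x : IrrCharacter (Subgroup.centralizer ((bP 2 M a v).1 : Set G)) → Fin 4 → ℤ}
    (hx : ∀ ξ ∈ (bP 2 M a v).2, ∀ η ∈ (bP 2 M a v).2, (16 : ℂ) * rg 2
      (ξ : Subgroup.centralizer ((bP 2 M a v).1 : Set G) → ℂ)
      (η : Subgroup.centralizer ((bP 2 M a v).1 : Set G) → ℂ) =
        ((4 * ∑ i, x ξ i * x η i - (∑ i, x ξ i) * (∑ i, x η i) : ℤ) : ℂ)) :
    ∃ X : IrrCharacter G → Fin 4 → ℤ, ∀ χ ψ : IrrCharacter G,
      (16 : ℂ) * ctr 2 v (bP 2 M a v) (χ : G → ℂ) (ψ : G → ℂ) =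
        ((4 * ∑ i, X χ i * X ψ i - (∑ i, X χ i) * (∑ i, X ψ i) : ℤ) : ℂ) := by
  classical
  have : Finite (IrrCharacter (Subgroup.centralizer ((bP 2 M a v).1 : Set G))) :=
    Core.finite_irr
  have := Fintype.ofFinite (IrrCharacter (Subgroup.centralizer ((bP 2 M a v).1 : Set G)))
  have : Fintype (bP 2 M a v).2 := Fintype.ofFinite _
  have hcen := centralizer_bP hM hmax.1.1 hv
  obtain ⟨n, e, hE⟩ := exists_exp (u := v) hcen (q := 2) (by rw [pow_two, hvv])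
  have hind := isInducedBlock_bP hM hmax hv
  have hε : ∀ ξ, ∃ ε : ℤ, e ξ = ε := by
    intro ξ
    have h1 := hE.root ξ
    rcases sq_eq_one_iff_of_side h1 with h | h
    · exact ⟨1, by rw [h]; norm_num⟩
    · exact ⟨-1, by rw [h]; norm_num⟩
  choose ε hε using hε
  refine ⟨fun χ i => ∑ ξ : (bP 2 M a v).2, (n χ ξ : ℤ) * ε ξ * x ξ i, fun χ ψ => ?_⟩
  rw [ctr_eq_contr' hM (bP_spec hM hmax.1.1 hv).1 hind.1 (Core.isIrr_isClassFunction χ.2)
    (Core.isIrr_isClassFunction ψ.2)]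
  have h1 := contr_eq_sum hM hE hind.1 χ ψ (k := 1) (by rw [pow_one]; exact hcen)
  rw [pow_one] at h1
  rw [h1, Finset.mul_sum]
  have h2 : (4 * ∑ i, (∑ ξ : (bP 2 M a v).2, (n χ ξ : ℤ) * ε ξ * x ξ i) *
      (∑ η : (bP 2 M a v).2, (n ψ η : ℤ) * ε η * x η i) -
      (∑ i, ∑ ξ : (bP 2 M a v).2, (n χ ξ : ℤ) * ε ξ * x ξ i) *
      (∑ i, ∑ η : (bP 2 M a v).2, (n ψ η : ℤ) * ε η * x η i) : ℤ) =
      ∑ ξ : (bP 2 M a v).2, ∑ η : (bP 2 M a v).2, ((n χ ξ : ℤ) * ε ξ) * ((n ψ η : ℤ) * ε η) *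
        (4 * ∑ i, x ξ i * x η i - (∑ i, x ξ i) * (∑ i, x η i)) := by
    have e1 : ∑ i, (∑ ξ : (bP 2 M a v).2, (n χ ξ : ℤ) * ε ξ * x ξ i) *
        (∑ η : (bP 2 M a v).2, (n ψ η : ℤ) * ε η * x η i) =
        ∑ ξ : (bP 2 M a v).2, ∑ η : (bP 2 M a v).2, ((n χ ξ : ℤ) * ε ξ) * ((n ψ η : ℤ) * ε η) *
          ∑ i, x ξ i * x η i := by
      simp only [Finset.sum_mul_sum]
      rw [Finset.sum_comm]
      refine Finset.sum_congr rfl fun ξ _ => ?_
      rw [Finset.sum_comm]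
      refine Finset.sum_congr rfl fun η _ => ?_
      rw [Finset.mul_sum]
      exact Finset.sum_congr rfl fun i _ => by ring
    have e2 : ∀ (χ : IrrCharacter G), ∑ i, ∑ ξ : (bP 2 M a v).2, (n χ ξ : ℤ) * ε ξ * x ξ i =
        ∑ ξ : (bP 2 M a v).2, (n χ ξ : ℤ) * ε ξ * ∑ i, x ξ i := by
      intro χ
      rw [Finset.sum_comm]
      exact Finset.sum_congr rfl fun ξ _ => by rw [Finset.mul_sum]
    rw [e1, e2, e2, Finset.sum_mul_sum, Finset.mul_sum, ← Finset.sum_sub_distrib]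
    refine Finset.sum_congr rfl fun ξ _ => ?_
    rw [Finset.mul_sum, ← Finset.sum_sub_distrib]
    exact Finset.sum_congr rfl fun η _ => by ring
  rw [h2]
  push_cast
  refine Finset.sum_congr rfl fun ξ _ => ?_
  rw [Finset.mul_sum]
  refine Finset.sum_congr rfl fun η _ => ?_
  have h3 := hx ξ ξ.2 η η.2
  rw [hε ξ, hε η, map_intCast, pow_one]
  push_cast at h3
  linear_combination ((n χ ξ : ℂ) * (n ψ η : ℂ) * (ε ξ * ε η)) * h3

end

end Cfsg.Agent.H618.LemmaR
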