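import Mathlib
import Cfsg.Agent.H618.LemmaR
import Cfsg.Agent.H618.CoreQ
import Cfsg.Agent.H618.GridForm

/-!
# Blocks with defect group `2 ^ 4` and inertial quotient of order nine

`formBd_nine`: such a block has a positive form with trace `16`, or its rank is at most three.
-/

set_option autoImplicit false
set_option linter.unusedSectionVars false

open Cfsg
open scoped ComplexConjugate

namespace Cfsg.Agent.H618.FormNine

open Cfsg.Agent.Blocks.Blau Cfsg.Agent.Blocks.Local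
open Cfsg.Agent.H651 Cfsg.Agent.H649 Cfsg.Agent.Characters
open Cfsg.Agent.H652.DoubleCount Cfsg.Agent.H645.FusCount Cfsg.Agent.H650
open Cfsg.Agent.H645.TraceForm Cfsg.Agent.H645.LocMono Cfsg.Agent.H645.Watanabe
open Cfsg.Agent.H652.Ctr Cfsg.Agent.H652.CtrOne Cfsg.Agent.H613.RegGram
open Cfsg.Agent.H613.Contrib Cfsg.Agent.H613.ContribVal
open Cfsg.Agent.H617.AbelRank Cfsg.Agent.H617.StarAut Cfsg.Agent.H617.StarCols
open Cfsg.Agent.H617.RankOneCol
open Cfsg.Agent.H618.StarGen Cfsg.Agent.H618.LemmaR Cfsg.Agent.H616.Form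

universe u

theorem rel_of_rg {G : Type u} [Group G] [Fintype G] {M : Ideal AlgInt} (hM : IsPModular 2 M)
    {B : Set (IrrCharacter G)} [Fintype B] (hB : IsPBlock M B) {c : B → ℤ}
    (h : ∀ ζ : B, ∑ ψ : B, (c ψ : ℂ) * rg 2 ((ψ : IrrCharacter G) : G → ℂ)
      ((ζ : IrrCharacter G) : G → ℂ) = 0) : Rel 2 B c := by
  intro g hg
  have h1 : ∀ ψ : B, ((ψ : IrrCharacter G) : G → ℂ) g =
      ∑ ζ : B, rg 2 (ψ : G → ℂ) (ζ : G → ℂ) * ((ζ : IrrCharacter G) : G → ℂ) g := by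
    intro ψ
    have h2 := congrFun (regPart_eq_sum_block hM hB ψ.2) g
    rw [regPart_of_not_dvd hg] at h2
    rw [h2, Finset.sum_apply]
    rfl
  calc ∑ ψ : B, (c ψ : ℂ) * ((ψ : IrrCharacter G) : G → ℂ) g
      = ∑ ψ : B, ∑ ζ : B, (c ψ : ℂ) * rg 2 (ψ : G → ℂ) (ζ : G → ℂ) *
          ((ζ : IrrCharacter G) : G → ℂ) g := by
        refine Finset.sum_congr rfl fun ψ _ => ?_
        rw [h1 ψ, Finset.mul_sum]
        exact Finset.sum_congr rfl fun ζ _ => by ring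
    _ = 0 := by
        rw [Finset.sum_comm]
        refine Finset.sum_eq_zero fun ζ _ => ?_
        rw [← Finset.sum_mul, h ζ, zero_mul]

variable {G : Type u} [Group G] [Fintype G] {M : Ideal AlgInt} [M.IsPrime]

section

variable (hM : IsPModular 2 M) {B : Set (IrrCharacter G)} {a : BrauerPairIdx G}
  (hmax : IsMaximalBrauerPair 2 M B a.1 a.2) (hcard : Nat.card a.1 = 16)
  (hel : ∀ x ∈ a.1, x * x = 1)

include hM hmax hcard hel

/-- The columns at an element of a factor. -/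
theorem local_cols (hF : Nat.card (autG a) = 9) {V₁ V₂ : Subgroup a.1}
    (hD : AutNine.Dec (autG a) V₁ V₂) {u : a.1} (hu : u ∈ V₁) (hu1 : u ≠ 1) :
    blockRank 2 (bP 2 M a (u : G)).2 = 3 ∧ ∃ X : IrrCharacter G → Fin 4 → ℤ,
      ∀ χ ψ : IrrCharacter G,
      (16 : ℂ) * ctr 2 (u : G) (bP 2 M a (u : G)) (χ : G → ℂ) (ψ : G → ℂ) =
        ((4 * ∑ i, X χ i * X ψ i - (∑ i, X χ i) * (∑ i, X ψ i) : ℤ) : ℂ) := by
  classical
  have hel' : ∀ x : a.1, x * x = 1 := fun x => Subtype.ext (hel x x.2)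
  have hab : ∀ x ∈ a.1, ∀ y ∈ a.1, x * y = y * x := fun x hx y hy =>
    congrArg Subtype.val (AutNine.comm_of_el hel' ⟨x, hx⟩ ⟨y, hy⟩)
  obtain ⟨h1, h2⟩ := bP_spec hM hmax.1.1 u.2
  obtain ⟨a', k1, -, k3, -, k5, -⟩ := exists_loc hM hmax hab (Q := (bP 2 M a (u : G)).1)
    (f := (bP 2 M a (u : G)).2) h2
  have hcen := centralizer_bP hM hmax.1.1 u.2
  have : Fintype (Subgroup.centralizer ((bP 2 M a (u : G)).1 : Set G)) := Fintype.ofFinite _
  have haH : a.1 ≤ Subgroup.centralizer ((bP 2 M a (u : G)).1 : Set G) := by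
    intro x hx
    rw [hcen, Subgroup.mem_centralizer_singleton_iff]
    exact hab x hx u u.2
  have helL : ∀ x ∈ a'.1, x * x = 1 := by
    intro x hx
    rw [k1, Subgroup.mem_subgroupOf] at hx
    exact Subtype.ext (hel x hx)
  have hcardL : Nat.card a'.1 = 16 := by
    rw [k1, ← hcard]
    exact Nat.card_congr (Subgroup.subgroupOfEquivOfLe haH).toEquiv
  have hC' : Subgroup.centralizer (a'.1 : Set (Subgroup.centralizer
      ((bP 2 M a (u : G)).1 : Set G))) = (Subgroup.centralizer (a.1 : Set G)).subgroupOf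
        (Subgroup.centralizer ((bP 2 M a (u : G)).1 : Set G)) := by
    ext x
    rw [Subgroup.mem_subgroupOf, Subgroup.mem_centralizer_iff, Subgroup.mem_centralizer_iff]
    constructor
    · intro h y hy
      have h1 : (⟨y, haH hy⟩ : Subgroup.centralizer ((bP 2 M a (u : G)).1 : Set G)) ∈ a'.1 := by
        rw [k1, Subgroup.mem_subgroupOf]
        exact hy
      exact congrArg Subtype.val (h _ h1)
    · intro h y hy
      rw [SetLike.mem_coe, k1, Subgroup.mem_subgroupOf] at hy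
      exact Subtype.ext (h y hy)
  have hS' : stab a' = (stab a ⊓ Subgroup.centralizer ({(u : G)} : Set G)).subgroupOf
      (Subgroup.centralizer ((bP 2 M a (u : G)).1 : Set G)) := by
    ext x
    rw [k5, Subgroup.mem_subgroupOf, Subgroup.mem_inf]
    exact ⟨fun h => ⟨h, hcen ▸ x.2⟩, fun h => h.1⟩
  have hidxL : (Subgroup.centralizer (a'.1 : Set (Subgroup.centralizer
      ((bP 2 M a (u : G)).1 : Set G)))).relIndex (stab a') = 3 := by
    rw [hC', hS', Subgroup.relIndex_subgroupOf (by rw [hcen]; exact inf_le_right),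
      relIndex_inf hM hmax hab u.2 (autG a ⊓ MulAction.stabilizer (MulAut a.1) u) (fun α => by
        rw [Subgroup.mem_inf, MulAction.mem_stabilizer_iff]
        rfl)]
    exact hD.card_stab hel' hF hu hu1
  have hfix : ∀ v : a.1, (∀ t ∈ stab a, t * (u : G) * t⁻¹ = u → t * (v : G) * t⁻¹ = v) ↔
      v ∈ V₁ := by
    intro v
    rw [← hD.fix_iff hel' hF hu hu1 v]
    constructor
    · intro h β hβ hfu
      obtain ⟨t, ht, h1⟩ := (mem_autG hM hmax hab).1 hβ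
      apply Subtype.ext
      rw [h1 v]
      refine h t ht ?_
      rw [← h1 u, hfu]
    · intro h t ht htu
      obtain ⟨α, hα, h1⟩ := exists_autG hM hmax hab ht
      rw [← h1 v, h α hα (Subtype.ext (by rw [h1 u, htu]))]
  have hWL : Nat.card {w : Subgroup.centralizer ((bP 2 M a (u : G)).1 : Set G) //
      w ∈ a'.1 ∧ ∀ t ∈ stab a', t * w * t⁻¹ = w} = 4 := by
    rw [← hD.card₁]
    have hmem : ∀ w : Subgroup.centralizer ((bP 2 M a (u : G)).1 : Set G), w ∈ a'.1 ↔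
        (w : G) ∈ a.1 := by
      intro w
      rw [k1, Subgroup.mem_subgroupOf]
    have hcond : ∀ (w : Subgroup.centralizer ((bP 2 M a (u : G)).1 : Set G))
        (hw : (w : G) ∈ a.1), (∀ t ∈ stab a', t * w * t⁻¹ = w) ↔ (⟨w, hw⟩ : a.1) ∈ V₁ := by
      intro w hw
      rw [← hfix]
      constructor
      · intro h t ht htu
        have htH : t ∈ Subgroup.centralizer ((bP 2 M a (u : G)).1 : Set G) := by
          rw [hcen, Subgroup.mem_centralizer_singleton_iff]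
          calc t * (u : G) = t * u * t⁻¹ * t := by group
            _ = u * t := by rw [htu]
        exact congrArg Subtype.val (h ⟨t, htH⟩ ((k5 _).2 ht))
      · intro h t ht
        apply Subtype.ext
        refine h t ((k5 t).1 ht) ?_
        have h7 : (t : G) ∈ Subgroup.centralizer ({(u : G)} : Set G) := hcen ▸ t.2
        rw [Subgroup.mem_centralizer_singleton_iff] at h7
        rw [h7]
        group
    exact Nat.card_congr
      { toFun := fun w => ⟨⟨w.1, (hmem w.1).1 w.2.1⟩, (hcond w.1 ((hmem w.1).1 w.2.1)).1 w.2.2⟩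
        invFun := fun v => ⟨⟨v.1, haH v.1.2⟩, (hmem _).2 v.1.2, (hcond _ v.1.2).2 v.2⟩
        left_inv := fun _ => rfl
        right_inv := fun _ => rfl }
  obtain ⟨hl3, x, hx⟩ := lemmaR hM k3 hcardL helL hidxL hWL
  exact ⟨hl3, exists_cols hM hmax u.2 (hel u u.2) hx⟩

/-- **The main theorem.** -/
theorem formBd_nine (hidx : (Subgroup.centralizer (a.1 : Set G)).relIndex (stab a) = 9) :
    FormBd 2 B 16 ∨ blockRank 2 B ≤ 3 := by
  classical
  have hel' : ∀ x : a.1, x * x = 1 := fun x => Subtype.ext (hel x x.2)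
  have hab : ∀ x ∈ a.1, ∀ y ∈ a.1, x * y = y * x := fun x hx y hy =>
    congrArg Subtype.val (AutNine.comm_of_el hel' ⟨x, hx⟩ ⟨y, hy⟩)
  have := Core.finite_irr (G := G)
  have := Fintype.ofFinite a.1
  have : Fintype B := Fintype.ofFinite _
  have hcf : ∀ χ : IrrCharacter G, IsClassFunction G (χ : G → ℂ) := fun χ =>
    Core.isIrr_isClassFunction χ.2
  have hF : Nat.card (autG a) = 9 := by rw [card_autG hM hmax hab, hidx]
  obtain ⟨V₁, V₂, hD⟩ := AutNine.exists_dec hel' hcard hF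
  have hD' := hD.symm hel'
  obtain ⟨u₁, hu₁, hu₁1⟩ := hD.exists₁
  obtain ⟨u₂, hu₂, hu₂1⟩ := hD'.exists₁
  obtain ⟨u₃, hu₃⟩ : ∃ u₃, u₃ = u₁ * u₂ := ⟨_, rfl⟩
  -- the orbits
  have horb₁ := fun v hv hv1 => hD.mem_orbit hel' hF hu₁ hu₁1 (v := v) hv hv1
  have horb₂ := fun v hv hv1 => hD'.mem_orbit hel' hF hu₂ hu₂1 (v := v) hv hv1
  have hst₁ := hD.st₁
  have hst₂ := hD.st₂
  have hnot₁ : ∀ v, v ∈ MulAction.orbit (autG a) u₁ → v ∈ V₁ ∧ v ≠ 1 := by
    intro v hv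
    obtain ⟨α, hα, rfl⟩ := mem_orbit_iff.1 hv
    exact ⟨hst₁ α hα u₁ hu₁, fun h => hu₁1 (by rw [← map_one α] at h; exact α.injective h)⟩
  have hnot₂ : ∀ v, v ∈ MulAction.orbit (autG a) u₂ → v ∈ V₂ ∧ v ≠ 1 := by
    intro v hv
    obtain ⟨α, hα, rfl⟩ := mem_orbit_iff.1 hv
    exact ⟨hst₂ α hα u₂ hu₂, fun h => hu₂1 (by rw [← map_one α] at h; exact α.injective h)⟩
  have hu₃₁ : u₃ ∉ V₁ := by
    intro h
    rw [hu₃] at h
    exact hu₂1 (hD.disj u₂ ((V₁.mul_mem_cancel_left hu₁).1 h) hu₂)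
  have hu₃₂ : u₃ ∉ V₂ := by
    intro h
    rw [hu₃] at h
    exact hu₁1 (hD.disj u₁ hu₁ ((V₂.mul_mem_cancel_right hu₂).1 h))
  have hnot₃ : ∀ v, v ∈ MulAction.orbit (autG a) u₃ → v ∉ V₁ ∧ v ∉ V₂ := by
    intro v hv
    obtain ⟨α, hα, rfl⟩ := mem_orbit_iff.1 hv
    have h1 : α⁻¹ (α u₃) = u₃ := by rw [← MulAut.mul_apply, inv_mul_cancel, MulAut.one_apply]
    refine ⟨fun h => hu₃₁ ?_, fun h => hu₃₂ ?_⟩
    · rw [← h1]; exact hst₁ _ ((autG a).inv_mem hα) _ h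
    · rw [← h1]; exact hst₂ _ ((autG a).inv_mem hα) _ h
  have horb₃ : ∀ v, v ∉ V₁ → v ∉ V₂ → v ∈ MulAction.orbit (autG a) u₃ := by
    intro v h1 h2
    rw [hu₃]
    exact hD.mem_orbit_mul hel' hcard hF hu₁ hu₁1 hu₂ hu₂1 h1 h2
  have hone : ∀ v : a.1, v ≠ 1 → v ∉ MulAction.orbit (autG a) (1 : a.1) := fun v hv =>
    notMem_one hv
  -- the sum of the indicators
  have hsum1 : ∀ v : a.1, dl 1 v + dl u₁ v + dl u₂ v + dl u₃ v = 1 := by
    intro v
    have e1 := dl_add hst₁ hu₁ hu₁1 horb₁ v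
    by_cases h1 : v ∈ V₁
    · rw [if_pos h1] at e1
      have h3 : v ∉ MulAction.orbit (autG a) u₃ := fun h => (hnot₃ v h).1 h1
      have h2 : v ∉ MulAction.orbit (autG a) u₂ := fun h =>
        (hnot₂ v h).2 (hD.disj v h1 (hnot₂ v h).1)
      rw [e1, dl_of_notMem h2, dl_of_notMem h3]
      ring
    · rw [if_neg h1] at e1
      have h1' : v ≠ 1 := fun h => h1 (by rw [h]; exact V₁.one_mem)
      rw [e1]
      by_cases h2 : v ∈ V₂
      · have h3 : v ∉ MulAction.orbit (autG a) u₃ := fun h => (hnot₃ v h).2 h2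
        rw [dl_of_mem (horb₂ v h2 h1'), dl_of_notMem h3]
        ring
      · rw [dl_of_mem (horb₃ v h1 h2), dl_of_notMem fun h => h2 (hnot₂ v h).1]
        ring
  -- the data
  obtain ⟨hl₁, X, hX⟩ := local_cols hM hmax hcard hel hF hD hu₁ hu₁1
  obtain ⟨hl₂, Y, hY⟩ := local_cols hM hmax hcard hel hF hD' hu₂ hu₂1
  have hl₃ : blockRank 2 (bP 2 M a (u₃ : G)).2 = 1 := by
    refine rank_one_at hM hmax hab u₃.2 fun t ht htv x hx => ?_
    obtain ⟨α, hα, h1⟩ := exists_autG hM hmax hab ht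
    have h2 : α = 1 := by
      refine hD.stab_mul hel' hF hu₁ hu₁1 hu₂ hu₂1 hα ?_
      rw [← hu₃]
      apply Subtype.ext
      rw [h1, htv]
    have h3 := h1 ⟨x, hx⟩
    rw [h2, MulAut.one_apply] at h3
    exact h3.symm
  have hl₀ : blockRank 2 (bP 2 M a ((1 : a.1) : G)).2 = blockRank 2 B :=
    rank_eq hM hmax hab (1 : a.1).2 fun t _ => by simp
  obtain ⟨d, hd⟩ := exists_col hM hmax hab u₃.2 (hel u₃ u₃.2) hl₃
  rw [hcard] at hd
  -- the integral matrices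
  set c₀ : IrrCharacter G → IrrCharacter G → ℂ := fun χ ψ =>
    ctr 2 ((1 : a.1) : G) (bP 2 M a ((1 : a.1) : G)) (χ : G → ℂ) (ψ : G → ℂ) with hc₀
  set R₁ : IrrCharacter G → IrrCharacter G → ℤ := fun χ ψ =>
    4 * ∑ i, X χ i * X ψ i - (∑ i, X χ i) * (∑ i, X ψ i) with hR₁
  set R₂ : IrrCharacter G → IrrCharacter G → ℤ := fun χ ψ =>
    4 * ∑ i, Y χ i * Y ψ i - (∑ i, Y χ i) * (∑ i, Y ψ i) with hR₂
  set R₃ : IrrCharacter G → IrrCharacter G → ℤ := fun χ ψ => d χ * d ψ with hR₃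
  have hr₁ : ∀ χ ψ : IrrCharacter G, (R₁ χ ψ : ℂ) =
      16 * ctr 2 (u₁ : G) (bP 2 M a (u₁ : G)) (χ : G → ℂ) (ψ : G → ℂ) := fun χ ψ => (hX χ ψ).symm
  have hr₂ : ∀ χ ψ : IrrCharacter G, (R₂ χ ψ : ℂ) =
      16 * ctr 2 (u₂ : G) (bP 2 M a (u₂ : G)) (χ : G → ℂ) (ψ : G → ℂ) := fun χ ψ => (hY χ ψ).symm
  have hr₃ : ∀ χ ψ : IrrCharacter G, (R₃ χ ψ : ℂ) =
      16 * ctr 2 (u₃ : G) (bP 2 M a (u₃ : G)) (χ : G → ℂ) (ψ : G → ℂ) := fun χ ψ => by
    have h1 := hd χ ψ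
    simp only [hR₃]
    push_cast
    rw [← h1]
    norm_num
  -- the total
  have htot : ∀ χ ∈ B, ∀ ψ : IrrCharacter G, (if χ = ψ then (16 : ℂ) else 0) =
      16 * c₀ χ ψ + R₁ χ ψ + R₂ χ ψ + R₃ χ ψ := by
    intro χ hχ ψ
    have h1 := phi_one hM hmax hab hχ ψ
    have h2 : phi 2 M (a := a) (fun _ => 1) (χ : G → ℂ) (ψ : G → ℂ) =
        c₀ χ ψ + ctr 2 (u₁ : G) (bP 2 M a (u₁ : G)) (χ : G → ℂ) (ψ : G → ℂ) +
        ctr 2 (u₂ : G) (bP 2 M a (u₂ : G)) (χ : G → ℂ) (ψ : G → ℂ) +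
        ctr 2 (u₃ : G) (bP 2 M a (u₃ : G)) (χ : G → ℂ) (ψ : G → ℂ) := by
      rw [hc₀]
      simp only
      rw [← phi_dl hM hmax hab (1 : a.1) (hcf χ) (hcf ψ), ← phi_dl hM hmax hab u₁ (hcf χ) (hcf ψ),
        ← phi_dl hM hmax hab u₂ (hcf χ) (hcf ψ), ← phi_dl hM hmax hab u₃ (hcf χ) (hcf ψ),
        phi_eq hM hmax hab (inv_dl _) (hcf χ) (hcf ψ), phi_eq hM hmax hab (inv_dl _) (hcf χ) (hcf ψ),
        phi_eq hM hmax hab (inv_dl _) (hcf χ) (hcf ψ), phi_eq hM hmax hab (inv_dl _) (hcf χ) (hcf ψ),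
        phi_eq hM hmax hab (inv_const 1) (hcf χ) (hcf ψ), ← Finset.sum_add_distrib,
        ← Finset.sum_add_distrib, ← Finset.sum_add_distrib]
      refine Finset.sum_congr rfl fun v _ => ?_
      rw [← hsum1 v]
      ring
    rw [h2] at h1
    rw [hr₁, hr₂, hr₃]
    have h3 : (if χ = ψ then (16 : ℂ) else 0) = 16 * (if χ = ψ then 1 else 0) := by
      split_ifs <;> norm_num
    rw [h3, ← h1]
    ring
  -- traces
  have htr : ∀ (u : a.1) (R : IrrCharacter G → IrrCharacter G → ℤ),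
      (∀ χ ψ : IrrCharacter G, (R χ ψ : ℂ) =
        16 * ctr 2 (u : G) (bP 2 M a (u : G)) (χ : G → ℂ) (ψ : G → ℂ)) →
      ∑ χ : B, R χ χ = 16 * (blockRank 2 (bP 2 M a (u : G)).2 : ℤ) := by
    intro u R hR
    have h1 := sum_ctr_self hM hmax u.2
    have h2 : ((∑ χ : B, R χ χ : ℤ) : ℂ) =
        ((16 * (blockRank 2 (bP 2 M a (u : G)).2 : ℤ) : ℤ) : ℂ) := by
      push_cast
      rw [← h1, Finset.mul_sum]
      exact Finset.sum_congr rfl fun χ _ => hR χ χ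
    exact_mod_cast h2
  have ht₁ := htr u₁ R₁ hr₁
  have ht₂ := htr u₂ R₂ hr₂
  have ht₃ := htr u₃ R₃ hr₃
  rw [hl₁] at ht₁
  rw [hl₂] at ht₂
  rw [hl₃] at ht₃
  have hk : Fintype.card B = blockRank 2 B + 7 := by
    have h1 := sum_ctr_self hM hmax (1 : a.1).2
    rw [hl₀] at h1
    have h2 : ∑ χ : B, (16 : ℂ) = ∑ χ : B, (16 * c₀ χ χ + R₁ χ χ + R₂ χ χ + R₃ χ χ) :=
      Finset.sum_congr rfl fun χ _ => by
        rw [← htot χ χ.2 χ, if_pos rfl]
    rw [Finset.sum_add_distrib, Finset.sum_add_distrib, Finset.sum_add_distrib, ← Finset.mul_sum,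
      Finset.sum_const, Finset.card_univ, nsmul_eq_mul] at h2
    have e1 : (∑ χ : B, (R₁ χ χ : ℂ)) = 48 := by
      rw [← Int.cast_sum, ht₁]; norm_num
    have e2 : (∑ χ : B, (R₂ χ χ : ℂ)) = 48 := by
      rw [← Int.cast_sum, ht₂]; norm_num
    have e3 : (∑ χ : B, (R₃ χ χ : ℂ)) = 16 := by
      rw [← Int.cast_sum, ht₃]; norm_num
    rw [e1, e2, e3] at h2
    have e0 : ∑ χ : B, c₀ χ χ = blockRank 2 B := h1
    rw [e0] at h2
    have h3 : (Fintype.card B : ℂ) = ((blockRank 2 B + 7 : ℕ) : ℂ) := by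
      push_cast
      linear_combination (1 / 16 : ℂ) * h2
    exact_mod_cast h3
  by_cases h11 : 11 ≤ Fintype.card B
  swap
  · right
    omega
  left
  -- orthogonality
  have horth : ∀ (u v : a.1) (R R' : IrrCharacter G → IrrCharacter G → ℤ),
      (∀ χ ψ : IrrCharacter G, (R χ ψ : ℂ) =
        16 * ctr 2 (u : G) (bP 2 M a (u : G)) (χ : G → ℂ) (ψ : G → ℂ)) →
      (∀ χ ψ : IrrCharacter G, (R' χ ψ : ℂ) =
        16 * ctr 2 (v : G) (bP 2 M a (v : G)) (χ : G → ℂ) (ψ : G → ℂ)) →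
      v ∉ MulAction.orbit (autG a) u → ∀ χ ∈ B, ∀ χ' : IrrCharacter G,
      ∑ ψ : B, R χ ψ * R' χ' ψ = 0 := by
    intro u v R R' hR hR' huv χ hχ χ'
    have h1 := sum_ctr_ne hM hmax hab huv (χ' := χ') hχ
    have h2 : ((∑ ψ : B, R χ ψ * R' χ' ψ : ℤ) : ℂ) = 0 := by
      push_cast
      rw [← mul_zero (16 * 16 : ℂ), ← h1, Finset.mul_sum]
      refine Finset.sum_congr rfl fun ψ _ => ?_
      have h3 := congrArg conj (hR' χ' ψ)
      rw [map_intCast, map_mul, map_ofNat] at h3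
      rw [hR, h3]
      ring
    exact_mod_cast h2
  have hidem : ∀ (u : a.1) (R : IrrCharacter G → IrrCharacter G → ℤ),
      (∀ χ ψ : IrrCharacter G, (R χ ψ : ℂ) =
        16 * ctr 2 (u : G) (bP 2 M a (u : G)) (χ : G → ℂ) (ψ : G → ℂ)) →
      ∀ χ ∈ B, ∀ χ' : IrrCharacter G, ∑ ψ : B, R χ ψ * R χ' ψ = 16 * R χ χ' := by
    intro u R hR χ hχ χ'
    have h1 := sum_ctr_same hM hmax hab u (χ' := χ') hχ
    have h2 : ((∑ ψ : B, R χ ψ * R χ' ψ : ℤ) : ℂ) = ((16 * R χ χ' : ℤ) : ℂ) := by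
      push_cast
      rw [hR χ χ', ← h1, Finset.mul_sum, Finset.mul_sum]
      refine Finset.sum_congr rfl fun ψ _ => ?_
      have h3 := congrArg conj (hR χ' ψ)
      rw [map_intCast, map_mul, map_ofNat] at h3
      rw [hR, h3]
      ring
    exact_mod_cast h2
  have n12 : u₂ ∉ MulAction.orbit (autG a) u₁ := fun h =>
    hu₂1 (hD.disj u₂ (hnot₁ u₂ h).1 hu₂)
  have n13 : u₃ ∉ MulAction.orbit (autG a) u₁ := fun h => hu₃₁ (hnot₁ u₃ h).1
  have n31 : u₁ ∉ MulAction.orbit (autG a) u₃ := fun h => (hnot₃ u₁ h).1 hu₁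
  have n23 : u₃ ∉ MulAction.orbit (autG a) u₂ := fun h => hu₃₂ (hnot₂ u₃ h).1
  have n32 : u₂ ∉ MulAction.orbit (autG a) u₃ := fun h => (hnot₃ u₂ h).2 hu₂
  have o12 := horth u₁ u₂ R₁ R₂ hr₁ hr₂ n12
  have o13 := horth u₁ u₃ R₁ R₃ hr₁ hr₃ n13
  have o31 := horth u₃ u₁ R₃ R₁ hr₃ hr₁ n31
  have o23 := horth u₂ u₃ R₂ R₃ hr₂ hr₃ n23
  have o32 := horth u₃ u₂ R₃ R₂ hr₃ hr₂ n32
  have i1 := hidem u₁ R₁ hr₁
  have i2 := hidem u₂ R₂ hr₂
  have i3 := hidem u₃ R₃ hr₃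
  -- the congruences
  have hind₁ : V₁.index = 4 := by
    have h7 := Subgroup.card_mul_index V₁
    rw [hD.card₁, hcard] at h7
    omega
  have hind₂ : V₂.index = 4 := by
    have h7 := Subgroup.card_mul_index V₂
    rw [hD.card₂, hcard] at h7
    omega
  have hcong₁ : ∀ χ ∈ B, ∀ ψ : IrrCharacter G, (4 : ℤ) ∣ R₁ χ ψ + R₃ χ ψ := by
    intro χ hχ ψ
    obtain ⟨n, hn⟩ := exists_int hM hmax hab hst₂ hind₂ hu₂ hu₂1 horb₂ χ ψ
    have h1 := htot χ hχ ψ
    rw [hr₂ χ ψ] at h1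
    have h2 : ((R₁ χ ψ + R₃ χ ψ : ℤ) : ℂ) = (((if χ = ψ then 16 else 0) - 4 * n : ℤ) : ℂ) := by
      push_cast
      rw [h1, hn]
      ring
    have h3 : R₁ χ ψ + R₃ χ ψ = (if χ = ψ then 16 else 0) - 4 * n := by exact_mod_cast h2
    rw [h3]
    refine dvd_sub ?_ (Dvd.intro _ rfl)
    split_ifs
    · norm_num
    · exact dvd_zero 4
  have hcong₂ : ∀ χ ∈ B, ∀ ψ : IrrCharacter G, (4 : ℤ) ∣ R₂ χ ψ + R₃ χ ψ := by
    intro χ hχ ψ
    obtain ⟨n, hn⟩ := exists_int hM hmax hab hst₁ hind₁ hu₁ hu₁1 horb₁ χ ψ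
    have h1 := htot χ hχ ψ
    rw [hr₁ χ ψ] at h1
    have h2 : ((R₂ χ ψ + R₃ χ ψ : ℤ) : ℂ) = (((if χ = ψ then 16 else 0) - 4 * n : ℤ) : ℂ) := by
      push_cast
      rw [h1, hn]
      ring
    have h3 : R₂ χ ψ + R₃ χ ψ = (if χ = ψ then 16 else 0) - 4 * n := by exact_mod_cast h2
    rw [h3]
    refine dvd_sub ?_ (Dvd.intro _ rfl)
    split_ifs
    · norm_num
    · exact dvd_zero 4
  -- the column `d`
  have hd0 : ∀ χ : B, d χ ≠ 0 := by
    intro χ h0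
    have h1 := hr₃ χ χ
    simp only [hR₃, h0, mul_zero, Int.cast_zero] at h1
    rcases mul_eq_zero.1 h1.symm with h2 | h2
    · norm_num at h2
    · exact ctr_self_ne_zero hM hmax hab u₃.2 χ.2 h2
  have hodd : ∃ χ : B, Odd (d χ) := by
    by_contra hno
    push Not at hno
    have h1 : ∀ χ : B, 4 ≤ R₃ χ χ := by
      intro χ
      obtain ⟨k, hk⟩ := Int.not_odd_iff_even.1 (hno χ)
      have hk0 : k ≠ 0 := by
        rintro rfl
        exact hd0 χ (by rw [hk]; ring)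
      have h2 : 0 < k ^ 2 := by positivity
      simp only [hR₃]
      rw [hk]
      nlinarith
    have h2 : ∑ χ : B, (4 : ℤ) ≤ ∑ χ : B, R₃ χ χ := Finset.sum_le_sum fun χ _ => h1 χ
    rw [ht₃, Finset.sum_const, Finset.card_univ, nsmul_eq_mul] at h2
    have h3 : (11 : ℤ) ≤ Fintype.card B := by exact_mod_cast h11
    push_cast at h2
    linarith
  -- the lifts
  obtain ⟨c, hc1, hc2⟩ := CoreQ.exists_lift (ι := B) (fun χ => X χ) (fun χ => d χ) (by
    intro χ ψ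
    have h1 := hcong₁ χ χ.2 ψ
    have h2 : (∑ i, X χ i) * (∑ i, X ψ i) - d χ * d ψ =
        4 * ∑ i, X χ i * X ψ i - (R₁ χ ψ + R₃ χ ψ) := by
      simp only [hR₁, hR₃]
      ring
    rw [h2]
    exact dvd_sub (Dvd.intro _ rfl) h1) hodd
  obtain ⟨c', hc1', hc2'⟩ := CoreQ.exists_lift (ι := B) (fun χ => Y χ) (fun χ => d χ) (by
    intro χ ψ
    have h1 := hcong₂ χ χ.2 ψ
    have h2 : (∑ i, Y χ i) * (∑ i, Y ψ i) - d χ * d ψ =
        4 * ∑ i, Y χ i * Y ψ i - (R₂ χ ψ + R₃ χ ψ) := by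
      simp only [hR₂, hR₃]
      ring
    rw [h2]
    exact dvd_sub (Dvd.intro _ rfl) h1) hodd
  have hQ₁ : ∀ x y : B, 4 * ∑ i, c i x * c i y = R₁ x y + R₃ x y := by
    intro x y
    have h1 := hc2 x y
    simp only [hR₁, hR₃]
    linarith
  have hQ₂ : ∀ x y : B, 4 * ∑ i, c' i x * c' i y = R₂ x y + R₃ x y := by
    intro x y
    have h1 := hc2' x y
    simp only [hR₂, hR₃]
    linarith
  have hsw : ∀ (c : Fin 4 → B → ℤ) (x y : B), ∑ i, c i x * c i y = ∑ i, c i y * c i x :=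
    fun c x y => Finset.sum_congr rfl fun i _ => mul_comm _ _
  have hgram₁ := CoreQ.gram (c := c) (fun x z => by
    have h1 : ∑ y, (4 * ∑ i, c i x * c i y) * (4 * ∑ i, c i z * c i y) =
        16 * (R₁ x z + R₃ x z) := by
      simp only [hQ₁, add_mul, mul_add]
      rw [Finset.sum_add_distrib, Finset.sum_add_distrib, Finset.sum_add_distrib,
        i1 x x.2 z, i3 x x.2 z, o13 x x.2 z, o31 x x.2 z]
      ring
    rw [← hQ₁] at h1
    have h2 : ∑ y, (4 * ∑ i, c i x * c i y) * (4 * ∑ i, c i z * c i y) =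
        16 * ∑ y, (∑ i, c i x * c i y) * (∑ i, c i y * c i z) := by
      rw [Finset.mul_sum]
      exact Finset.sum_congr rfl fun y _ => by rw [hsw c z y]; ring
    rw [h2] at h1
    linarith) (by
    have h1 : ∑ x : B, 4 * ∑ i, c i x * c i x = 64 := by
      simp only [hQ₁]
      rw [Finset.sum_add_distrib, ht₁, ht₃]
      norm_num
    rw [← Finset.mul_sum] at h1
    linarith)
  have hgram₂ := CoreQ.gram (c := c') (fun x z => by
    have h1 : ∑ y, (4 * ∑ i, c' i x * c' i y) * (4 * ∑ i, c' i z * c' i y) =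
        16 * (R₂ x z + R₃ x z) := by
      simp only [hQ₂, add_mul, mul_add]
      rw [Finset.sum_add_distrib, Finset.sum_add_distrib, Finset.sum_add_distrib,
        i2 x x.2 z, i3 x x.2 z, o23 x x.2 z, o32 x x.2 z]
      ring
    rw [← hQ₂] at h1
    have h2 : ∑ y, (4 * ∑ i, c' i x * c' i y) * (4 * ∑ i, c' i z * c' i y) =
        16 * ∑ y, (∑ i, c' i x * c' i y) * (∑ i, c' i y * c' i z) := by
      rw [Finset.mul_sum]
      exact Finset.sum_congr rfl fun y _ => by rw [hsw c' z y]; ring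
    rw [h2] at h1
    linarith) (by
    have h1 : ∑ x : B, 4 * ∑ i, c' i x * c' i x = 64 := by
      simp only [hQ₂]
      rw [Finset.sum_add_distrib, ht₂, ht₃]
      norm_num
    rw [← Finset.mul_sum] at h1
    linarith)
  have hcross := CoreQ.cross hgram₁ hgram₂ (d := fun χ : B => d χ) hc1 hc1' (fun x z => by
    have h1 : ∑ y, (4 * ∑ i, c i x * c i y) * (4 * ∑ i, c' i z * c' i y) =
        16 * (d x * d z) := by
      simp only [hQ₁, hQ₂, add_mul, mul_add]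
      rw [Finset.sum_add_distrib, Finset.sum_add_distrib, Finset.sum_add_distrib,
        o12 x x.2 z, i3 x x.2 z, o13 x x.2 z, o32 x x.2 z]
      simp only [hR₃]
      ring
    have h2 : ∑ y, (4 * ∑ i, c i x * c i y) * (4 * ∑ i, c' i z * c' i y) =
        16 * ∑ y, (∑ i, c i x * c i y) * (∑ i, c' i y * c' i z) := by
      rw [Finset.mul_sum]
      exact Finset.sum_congr rfl fun y _ => by rw [hsw c' z y]; ring
    rw [h2] at h1
    linarith)
  obtain ⟨h16, f, d', hd', hf1, hf2⟩ := CoreE.coreE h11 hgram₁ hgram₂ hcross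
    (fun x => by rw [hc1, hc1']) (fun x => by rw [hc1]; exact hd0 x)
  -- the relations
  have hz : ∀ (u : a.1) (R : IrrCharacter G → IrrCharacter G → ℤ),
      (∀ χ ψ : IrrCharacter G, (R χ ψ : ℂ) =
        16 * ctr 2 (u : G) (bP 2 M a (u : G)) (χ : G → ℂ) (ψ : G → ℂ)) →
      u ≠ 1 → ∀ χ ∈ B, ∀ χ' : IrrCharacter G, ∑ ψ : B, c₀ χ ψ * (R χ' ψ : ℂ) = 0 := by
    intro u R hR hu χ hχ χ'
    have h1 := sum_ctr_ne hM hmax hab (hone u hu) (χ' := χ') hχ
    rw [← mul_zero (16 : ℂ), ← h1, Finset.mul_sum]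
    refine Finset.sum_congr rfl fun ψ _ => ?_
    have h3 := congrArg conj (hR χ' ψ)
    rw [map_intCast, map_mul, map_ofNat] at h3
    rw [h3]
    ring
  have hu₃1 : u₃ ≠ 1 := fun h => hu₃₁ (by rw [h]; exact V₁.one_mem)
  have z1 := hz u₁ R₁ hr₁ hu₁1
  have z2 := hz u₂ R₂ hr₂ hu₂1
  have z3 := hz u₃ R₃ hr₃ hu₃1
  have hrel : ∀ (c : Fin 4 → B → ℤ), (∀ i j, ∑ x, c i x * c j x = if i = j then 4 else 0) →
      (∀ χ z : B, ∑ ψ : B, c₀ χ ψ * ((4 * ∑ k, c k z * c k ψ : ℤ) : ℂ) = 0) →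
      ∀ i, Rel 2 B (c i) := by
    intro c hg hzero i
    refine rel_of_rg hM hmax.1.2.1 fun ζ => ?_
    have h1 : ∑ ψ : B, c₀ ζ ψ * (c i ψ : ℂ) = 0 := by
      have h2 : ∀ ψ : B, 4 * c i ψ = ∑ z : B, c i z * ∑ k, c k z * c k ψ := by
        intro ψ
        have h3 : ∑ z : B, c i z * ∑ k, c k z * c k ψ = ∑ k, (∑ z, c i z * c k z) * c k ψ := by
          simp only [Finset.mul_sum, Finset.sum_mul]
          rw [Finset.sum_comm]
          exact Finset.sum_congr rfl fun k _ => Finset.sum_congr rfl fun z _ => by ring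
        rw [h3, Finset.sum_congr rfl fun k _ => by rw [hg i k]]
        simp only [ite_mul, zero_mul]
        rw [Finset.sum_ite_eq, if_pos (Finset.mem_univ _)]
      have h4 : 16 * ∑ ψ : B, c₀ ζ ψ * (c i ψ : ℂ) =
          ∑ z : B, (c i z : ℂ) * ∑ ψ : B, c₀ ζ ψ * ((4 * ∑ k, c k z * c k ψ : ℤ) : ℂ) := by
        simp only [Finset.mul_sum]
        rw [Finset.sum_comm]
        refine Finset.sum_congr rfl fun ψ _ => ?_
        have h5 : ((4 * c i ψ : ℤ) : ℂ) = ((∑ z : B, c i z * ∑ k, c k z * c k ψ : ℤ) : ℂ) := by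
          rw [h2 ψ]
        have h6 : (16 : ℂ) * (c₀ ζ ψ * (c i ψ : ℂ)) = 4 * c₀ ζ ψ * ((4 * c i ψ : ℤ) : ℂ) := by
          push_cast; ring
        rw [h6, h5]
        push_cast
        simp only [Finset.mul_sum]
        exact Finset.sum_congr rfl fun z _ => Finset.sum_congr rfl fun k _ => by ring
      have h7 : ∑ z : B, (c i z : ℂ) * ∑ ψ : B, c₀ ζ ψ * ((4 * ∑ k, c k z * c k ψ : ℤ) : ℂ) = 0 :=
        Finset.sum_eq_zero fun z _ => by rw [hzero ζ z, mul_zero]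
      rw [h7] at h4
      exact (mul_eq_zero.1 h4).resolve_left (by norm_num)
    have h2 := congrArg conj h1
    rw [map_sum, map_zero] at h2
    rw [← h2]
    refine Finset.sum_congr rfl fun ψ _ => ?_
    have h3 : c₀ ζ ψ = rg 2 ((ζ : IrrCharacter G) : G → ℂ) ((ψ : IrrCharacter G) : G → ℂ) :=
      ctr_one hM hmax hab ζ.2 ψ
    rw [map_mul, map_intCast, h3, conj_rg]
    ring
  have hrow : ∀ i, Rel 2 B (c i) := hrel c hgram₁ fun χ z => by
    have h1 : ∀ ψ : B, c₀ χ ψ * ((4 * ∑ k, c k z * c k ψ : ℤ) : ℂ) =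
        c₀ χ ψ * (R₁ z ψ : ℂ) + c₀ χ ψ * (R₃ z ψ : ℂ) := by
      intro ψ
      rw [hQ₁]
      push_cast
      ring
    rw [Finset.sum_congr rfl fun ψ _ => h1 ψ, Finset.sum_add_distrib, z1 χ χ.2 z, z3 χ χ.2 z,
      add_zero]
  have hcol : ∀ i, Rel 2 B (c' i) := hrel c' hgram₂ fun χ z => by
    have h1 : ∀ ψ : B, c₀ χ ψ * ((4 * ∑ k, c' k z * c' k ψ : ℤ) : ℂ) =
        c₀ χ ψ * (R₂ z ψ : ℂ) + c₀ χ ψ * (R₃ z ψ : ℂ) := by
      intro ψ
      rw [hQ₂]
      push_cast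
      ring
    rw [Finset.sum_congr rfl fun ψ _ => h1 ψ, Finset.sum_add_distrib, z2 χ χ.2 z, z3 χ χ.2 z,
      add_zero]
  refine GridForm.formBd_grid hM hmax.1.2.1 (by omega) f hd' (fun i => ?_) (fun j => ?_)
  · have h1 : (fun x => if (f x).1 = i then d' x else 0) = c i := funext fun x => (hf1 i x).symm
    rw [h1]
    exact hrow i
  · have h1 : (fun x => if (f x).2 = j then d' x else 0) = c' j := funext fun x => (hf2 j x).symm
    rw [h1]
    exact hcol j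

end

end Cfsg.Agent.H618.FormNine
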