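import Mathlib
import Cfsg.Agent.H624.AsmMain
import Cfsg.Agent.H618.FormNine

/-!
# Package E of the assembly of Brauer's bound
-/

set_option autoImplicit false

open Cfsg

namespace Cfsg.Agent.H618.PkgE

universe u

theorem pkgE {M : Ideal AlgInt} (hM : IsPModular 2 M) : Cfsg.Agent.H624.AsmMain.PkgE.{u} M := by
  intro G _ _ B a hmax hcard hel hidx
  have := Fintype.ofFinite G
  have := Cfsg.Agent.Blocks.Local.isPrime_of_isPModular hM
  exact Cfsg.Agent.H618.FormNine.formBd_nine hM hmax hcard hel hidx

end Cfsg.Agent.H618.PkgE
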