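import Cfsg.Agent.H412.Tc.Defs

/-!
# Step C of the three-closure theorem (helper618, for S3621)

A solvable group of affine maps permuting a family of orthogonal idempotents has solvable
3-closure (induction hypothesis for smaller degrees).
-/

set_option autoImplicit false

namespace Cfsg.Agent.H618.TcStepC

open Equiv
open Cfsg.Agent.H412.Tc

universe u

section

variable {V : Type u} [AddCommGroup V] {ι : Type u} (ε : ι → AddMonoid.End V)

/-- the coordinates where `a` and `b` differ -/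
def D (a b : V) : Set ι := {i | ε i a ≠ ε i b}

variable {ε}

theorem mem_D {a b : V} {i : ι} : i ∈ D ε a b ↔ ε i a ≠ ε i b := Iff.rfl

theorem D_comm (a b : V) : D ε a b = D ε b a := by
  ext i
  rw [mem_D, mem_D, ne_comm]

/-- the data of orthogonal idempotents -/
structure Sys (ε : ι → AddMonoid.End V) : Prop where
  hid : ∀ i, ε i * ε i = ε i
  horth : ∀ i j, i ≠ j → ε i * ε j = 0
  hsum : ∀ v, (∀ i, ε i v = 0) → v = 0
  hne : ∀ i, ε i ≠ 0

theorem Sys.idem (S : Sys ε) (i : ι) (v : V) : ε i (ε i v) = ε i v :=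
  DFunLike.congr_fun (S.hid i) v

theorem Sys.orth (S : Sys ε) {i j : ι} (h : i ≠ j) (v : V) : ε i (ε j v) = 0 :=
  DFunLike.congr_fun (S.horth i j h) v

theorem Sys.exists_s (S : Sys ε) (i : ι) : ∃ s : V, s ≠ 0 ∧ ε i s = s := by
  by_contra hcon
  push Not at hcon
  apply S.hne i
  ext v
  by_contra h1
  exact hcon (ε i v) h1 (S.idem i v)

/-- a chosen nonzero vector in the range of `ε i` -/
noncomputable def Sys.s (S : Sys ε) (i : ι) : V := (S.exists_s i).choose

theorem Sys.s_ne (S : Sys ε) (i : ι) : S.s i ≠ 0 := (S.exists_s i).choose_spec.1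

theorem Sys.s_self (S : Sys ε) (i : ι) : ε i (S.s i) = S.s i := (S.exists_s i).choose_spec.2

theorem Sys.s_other (S : Sys ε) {i j : ι} (h : i ≠ j) : ε i (S.s j) = 0 := by
  rw [← S.s_self j, S.orth h]

theorem Sys.s_inj (S : Sys ε) : Function.Injective S.s := by
  intro i j h
  by_contra hij
  have h1 := S.s_other (i := i) (j := j) hij
  rw [← h, S.s_self] at h1
  exact S.s_ne i h1

theorem Sys.D_add (S : Sys ε) (a : V) {i : ι} : D ε a (a + S.s i) = {i} := by
  ext l
  rw [mem_D, Set.mem_singleton_iff, map_add]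
  by_cases h : l = i
  · subst h
    simp [S.s_self, S.s_ne]
  · simp [S.s_other h, h]

/-- `π` describes the action of `h` on the index set -/
def Des (ε : ι → AddMonoid.End V) (h : Perm V) (i j : ι) : Prop :=
  ∀ a b, i ∈ D ε a b ↔ j ∈ D ε (h a) (h b)

theorem Des.uniq (S : Sys ε) {h : Perm V} {i j j' : ι} (hs : ∀ a i, ∃ k, D ε (h a) (h (a + S.s i)) = {k})
    (h1 : Des ε h i j) (h2 : Des ε h i j') : j = j' := by
  obtain ⟨k, hk⟩ := hs 0 i
  have h3 : i ∈ D ε (0 : V) (0 + S.s i) := by rw [S.D_add]; exact rfl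
  have h4 := (h1 _ _).1 h3
  have h5 := (h2 _ _).1 h3
  rw [hk] at h4 h5
  exact h4.trans h5.symm

theorem Des.mul {h k : Perm V} {i j l : ι} (h1 : Des ε k i j) (h2 : Des ε h j l) : Des ε (h * k) i l := by
  intro a b
  rw [h1, h2]
  rfl

theorem Des.one (i : ι) : Des ε (1 : Perm V) i i := fun _ _ => Iff.rfl

theorem exists_des_aff {A : Subgroup (GV V)}
    (hperm : ∀ g ∈ A, ∀ i, ∃ j, (g : AddMonoid.End V) * ε i = ε j * g) {g : Perm V} (hg : g ∈ Aff A) (i : ι) :
    ∃ j, Des ε g i j := by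
  obtain ⟨a, ha, t, hf⟩ := hg
  obtain ⟨j, hj⟩ := hperm a ha i
  refine ⟨j, fun x y => ?_⟩
  have h1 : ∀ z, ε j (g z) = a • ε i z + ε j t := by
    intro z
    rw [hf, map_add]
    congr 1
    exact (DFunLike.congr_fun hj z).symm
  rw [mem_D, mem_D, h1, h1]
  constructor
  · intro h2 h3
    exact h2 (smul_left_cancel a (add_right_cancel h3))
  · intro h2 h3
    exact h2 (by rw [h3])

/-- elements of the affine group map singleton differences to singleton differences -/
theorem des_aff_inj (S : Sys ε) {g : Perm V} {i i' j : ι} (h1 : Des ε g i j) (h2 : Des ε g i' j) : i = i' := by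
  have h3 : i ∈ D ε (0 : V) (0 + S.s i) := by rw [S.D_add]; exact rfl
  have h4 := (h2 _ _).2 ((h1 _ _).1 h3)
  rw [S.D_add] at h4
  exact h4.symm

theorem D_image [Finite ι] (S : Sys ε) {A : Subgroup (GV V)}
    (hperm : ∀ g ∈ A, ∀ i, ∃ j, (g : AddMonoid.End V) * ε i = ε j * g) {g : Perm V} (hg : g ∈ Aff A) :
    ∃ π : Perm ι, ∀ i, Des ε g i (π i) := by
  choose f hf using fun i => exists_des_aff hperm hg i
  have hinj : Function.Injective f := fun i i' h => des_aff_inj S (hf i) (by rw [h]; exact hf i')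
  exact ⟨Equiv.ofBijective f (Finite.injective_iff_bijective.1 hinj), hf⟩

theorem D_eq_singleton {g : Perm V} {π : Perm ι} (hπ : ∀ i, Des ε g i (π i)) {a b : V} {i : ι}
    (h : D ε a b = {i}) : D ε (g a) (g b) = {π i} := by
  ext l
  have h1 := hπ (π.symm l) a b
  rw [Equiv.apply_symm_apply] at h1
  rw [← h1, h, Set.mem_singleton_iff, Set.mem_singleton_iff, Equiv.symm_apply_eq]

variable [Finite ι] (S : Sys ε) {A : Subgroup (GV V)}
    (hperm : ∀ g ∈ A, ∀ i, ∃ j, (g : AddMonoid.End V) * ε i = ε j * g)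

include S hperm

theorem singleton_cl {h : Perm V} (hh : h ∈ cl (Aff A)) {a b : V} {i : ι} (hab : D ε a b = {i}) :
    ∃ k, D ε (h a) (h b) = {k} := by
  obtain ⟨g, hg, e1, e2, -⟩ := hh a b b
  obtain ⟨π, hπ⟩ := D_image S hperm hg
  refine ⟨π i, ?_⟩
  rw [← e1, ← e2]
  exact D_eq_singleton hπ hab

/-- the local statement -/
theorem exists_local {h : Perm V} (hh : h ∈ cl (Aff A)) (a : V) (i : ι) :
    ∃ j, ∀ b, (i ∈ D ε a b ↔ j ∈ D ε (h a) (h b)) := by
  obtain ⟨j, hj⟩ := singleton_cl S hperm hh (S.D_add a (i := i))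
  refine ⟨j, fun b => ?_⟩
  obtain ⟨g, hg, e1, e2, e3⟩ := hh a (a + S.s i) b
  obtain ⟨π, hπ⟩ := D_image S hperm hg
  have h1 := D_eq_singleton hπ (S.D_add a (i := i))
  rw [e1, e2, hj] at h1
  have h2 : j = π i := Set.singleton_eq_singleton_iff.1 h1
  rw [h2, ← e1, ← e3]
  exact hπ i a b

theorem exists_des {h : Perm V} (hh : h ∈ cl (Aff A)) (i : ι) : ∃ j, Des ε h i j := by
  obtain ⟨j, hj⟩ := exists_local S hperm hh 0 i
  refine ⟨j, ?_⟩
  -- `key`: equal local indices when `i ∉ D a b`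
  have key : ∀ a b : V, i ∉ D ε a b → ∀ j j', (∀ c, (i ∈ D ε a c ↔ j ∈ D ε (h a) (h c))) →
      (∀ c, (i ∈ D ε b c ↔ j' ∈ D ε (h b) (h c))) → j = j' := by
    intro a b hab j j' h1 h2
    obtain ⟨k, hk⟩ := singleton_cl S hperm hh (S.D_add b (i := i))
    have h3 : i ∈ D ε b (b + S.s i) := by rw [S.D_add]; exact rfl
    have h4 : i ∈ D ε a (b + S.s i) := by
      rw [mem_D] at h3 ⊢
      rw [mem_D, not_not] at hab
      rwa [hab]
    have h5 := (h1 _).1 h4
    have h6 : j ∉ D ε (h a) (h b) := fun h7 => hab ((h1 _).2 h7)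
    have h7 : j ∈ D ε (h b) (h (b + S.s i)) := by
      rw [mem_D, not_not] at h6
      rw [mem_D] at h5 ⊢
      rwa [← h6]
    have h8 := (h2 _).1 h3
    rw [hk] at h7 h8
    exact h7.trans h8.symm
  have key2 : ∀ a b : V, ∀ j j', (∀ c, (i ∈ D ε a c ↔ j ∈ D ε (h a) (h c))) →
      (∀ c, (i ∈ D ε b c ↔ j' ∈ D ε (h b) (h c))) → j = j' := by
    intro a b j j' h1 h2
    by_cases hab : i ∈ D ε a b
    · set b' : V := b - ε i b + ε i a with hb'
      have e1 : ε i b' = ε i a := by
        rw [hb', map_add, map_sub, S.idem, S.idem, sub_self, zero_add]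
      have e2 : ∀ l, l ≠ i → ε l b' = ε l b := by
        intro l hl
        rw [hb', map_add, map_sub, S.orth hl, S.orth hl, sub_zero, add_zero]
      have h3 : D ε b b' = {i} := by
        ext l
        rw [mem_D, Set.mem_singleton_iff]
        by_cases hl : l = i
        · subst hl
          rw [e1]
          simp only [iff_true]
          exact fun h9 => hab h9.symm
        · rw [e2 l hl]
          simp [hl]
      obtain ⟨j'', h4⟩ := exists_local S hperm hh b' i
      have h5 : j = j'' := key a b' (by rw [mem_D, not_not, e1]) j j'' h1 h4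
      obtain ⟨k, hk⟩ := singleton_cl S hperm hh h3
      have h6 : i ∈ D ε b b' := by rw [h3]; exact rfl
      have h7 := (h2 _).1 h6
      rw [D_comm] at h6
      have h8 := (h4 _).1 h6
      rw [D_comm, hk] at h8
      rw [hk] at h7
      rw [h5]
      exact h8.trans h7.symm
    · exact key a b hab j j' h1 h2
  intro a b
  obtain ⟨j', hj'⟩ := exists_local S hperm hh a i
  rw [key2 0 a j j' hj hj']
  exact hj' b

theorem uniq_cl {h : Perm V} (hh : h ∈ cl (Aff A)) {i j j' : ι} (h1 : Des ε h i j) (h2 : Des ε h i j') :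
    j = j' :=
  Des.uniq S (fun a _ => singleton_cl S hperm hh (S.D_add a)) h1 h2

/-- The action of the 3-closure on the index set. -/
theorem exists_sigma : ∃ σ : ↥(cl (Aff A)) →* Perm ι, ∀ (h : ↥(cl (Aff A))) (i : ι), Des ε (h : Perm V) i (σ h i) := by
  choose f hf using fun (h : ↥(cl (Aff A))) (i : ι) => exists_des S hperm h.2 i
  let F : ↥(cl (Aff A)) →* Function.End ι :=
    { toFun := fun h => f h
      map_one' := by
        funext i
        exact uniq_cl S hperm (one_mem _) (hf 1 i) (Des.one i)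
      map_mul' := by
        intro h k
        funext i
        exact uniq_cl S hperm (mul_mem h.2 k.2) (hf (h * k) i) ((hf k i).mul (hf h _)) }
  refine ⟨F.toHomPerm, fun h i => ?_⟩
  exact hf h i

end

/-- Agreement at three points determines the index. -/
theorem agree {V : Type u} [AddCommGroup V] {ι : Type u} {ε : ι → AddMonoid.End V} {g h : Perm V}
    {πg πh : Perm ι} (hg : ∀ i, Des ε g i (πg i)) (hh : ∀ i, Des ε h i (πh i)) {a b c : V} (ha : g a = h a)
    (hb : g b = h b) (hc : g c = h c) {i : ι} (hi : D ε a b ∩ D ε a c = {i}) : πg i = πh i := by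
  have h0 : i ∈ D ε a b ∩ D ε a c := by rw [hi]; exact rfl
  have h1 := (hh i _ _).1 h0.1
  have h2 := (hh i _ _).1 h0.2
  rw [← ha, ← hb] at h1
  rw [← ha, ← hc] at h2
  have h3 := hg (πg.symm (πh i)) a b
  have h4 := hg (πg.symm (πh i)) a c
  rw [Equiv.apply_symm_apply] at h3 h4
  have h5 : πg.symm (πh i) ∈ D ε a b ∩ D ε a c := ⟨h3.2 h1, h4.2 h2⟩
  rw [hi, Set.mem_singleton_iff, Equiv.symm_apply_eq] at h5
  exact h5.symm

/-- **Step C.** -/
theorem StepC.main {V : Type u} [AddCommGroup V] [Finite V] (hI : IH.{u} (Nat.card V))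
    (A : Subgroup (GV V)) (hA : Group.IsSolvable A) {ι : Type u} [Finite ι]
    (ε : ι → AddMonoid.End V) (hid : ∀ i, ε i * ε i = ε i)
    (horth : ∀ i j, i ≠ j → ε i * ε j = 0) (hsum : ∀ v, (∀ i, ε i v = 0) → v = 0)
    (hne : ∀ i, ε i ≠ 0) (h2 : ∃ i j : ι, i ≠ j)
    (hperm : ∀ g ∈ A, ∀ i, ∃ j, (g : AddMonoid.End V) * ε i = ε j * g) :
    Group.IsSolvable (cl (Aff A)) := by
  classical
  have S : Sys ε := ⟨hid, horth, hsum, hne⟩
  let H : Subgroup (Perm V) := cl (Aff A)
  obtain ⟨σ, hσ⟩ : ∃ σ : H →* Perm ι, ∀ (h : H) (i : ι), Des ε (h : Perm V) i (σ h i) :=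
    exists_sigma S hperm
  let G : Subgroup H := (Aff A).subgroupOf H
  have hGs : Group.IsSolvable G := by
    have h0 := solvable_Aff A hA
    exact Group.isSolvable_of_isSolvable_injective
      (f := ((Subgroup.subgroupOfEquivOfLe (le_cl (Aff A)) : G ≃* Aff A).toMonoidHom))
      (Subgroup.subgroupOfEquivOfLe (le_cl (Aff A))).injective
  -- the set of indices is smaller
  have hcard : Nat.card ι < Nat.card V := by
    have := Fintype.ofFinite ι
    have := Fintype.ofFinite V
    rw [Nat.card_eq_fintype_card, Nat.card_eq_fintype_card]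
    refine Fintype.card_lt_of_injective_of_notMem S.s S.s_inj (b := 0) ?_
    rintro ⟨i, hi⟩
    exact S.s_ne i hi
  have e0 : ∀ i, D ε (0 : V) (S.s i) = {i} := by
    intro i
    have := S.D_add 0 (i := i)
    rwa [zero_add] at this
  have eD : ∀ i j, D ε (S.s i) (S.s j) ⊆ {i, j} := by
    intro i j l hl
    by_contra h
    simp only [Set.mem_insert_iff, Set.mem_singleton_iff, not_or] at h
    rw [mem_D, S.s_other h.1, S.s_other h.2] at hl
    exact hl rfl
  have eD1 : ∀ i j, i ≠ j → i ∈ D ε (S.s i) (S.s j) := by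
    intro i j hij
    rw [mem_D, S.s_self, S.s_other hij]
    exact S.s_ne i
  have eI : ∀ i j l, i ≠ j → i ≠ l → j ≠ l → D ε (S.s i) (S.s j) ∩ D ε (S.s i) (S.s l) = {i} := by
    intro i j l hij hil hjl
    apply Set.Subset.antisymm
    · rintro k ⟨hk1, hk2⟩
      have h3 := eD _ _ hk1
      have h4 := eD _ _ hk2
      simp only [Set.mem_insert_iff, Set.mem_singleton_iff] at h3 h4 ⊢
      rcases h3 with h3 | h3
      · exact h3
      · rcases h4 with h4 | h4
        · exact h4
        · exact absurd (h3.symm.trans h4) hjl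
    · rintro k rfl
      exact ⟨eD1 _ _ hij, eD1 _ _ hil⟩
  -- solvability of the image of `σ`
  have hpair : ∀ h : H, ∀ i j : ι, ∃ g ∈ G, σ g i = σ h i ∧ σ g j = σ h j := by
    intro h i j
    obtain ⟨g, hg, g1, g2, g3⟩ := h.2 0 (S.s i) (S.s j)
    refine ⟨⟨g, le_cl _ hg⟩, hg, ?_, ?_⟩
    · exact agree (hσ ⟨g, le_cl _ hg⟩) (hσ h) g1 g2 g2 (by rw [Set.inter_self]; exact e0 i)
    · exact agree (hσ ⟨g, le_cl _ hg⟩) (hσ h) g1 g3 g3 (by rw [Set.inter_self]; exact e0 j)
  have hσs : Group.IsSolvable σ.range := by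
    refine hI.act hcard σ G hGs ?_
    intro h i j l
    by_cases hij : i = j
    · subst hij
      obtain ⟨g, hg, h3, h4⟩ := hpair h i l
      exact ⟨g, hg, h3, h3, h4⟩
    by_cases hil : i = l
    · subst hil
      obtain ⟨g, hg, h3, h4⟩ := hpair h i j
      exact ⟨g, hg, h3, h4, h3⟩
    by_cases hjl : j = l
    · subst hjl
      obtain ⟨g, hg, h3, h4⟩ := hpair h i j
      exact ⟨g, hg, h3, h4, h4⟩
    obtain ⟨g, hg, g1, g2, g3⟩ := h.2 (S.s i) (S.s j) (S.s l)
    have hs := hσ ⟨g, le_cl _ hg⟩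
    refine ⟨⟨g, le_cl _ hg⟩, hg, ?_, ?_, ?_⟩
    · exact agree hs (hσ h) g1 g2 g3 (eI _ _ _ hij hil hjl)
    · exact agree hs (hσ h) g2 g1 g3 (eI _ _ _ (Ne.symm hij) hjl hil)
    · exact agree hs (hσ h) g3 g1 g2 (eI _ _ _ (Ne.symm hil) (Ne.symm hjl) hij)
  -- the stabilizers
  have hmain : ∀ i : ι, ∃ f : σ.ker →* Perm {x : V // ε i x = x}, Group.IsSolvable f.range ∧
      ∀ h x, ((f h x : {x : V // ε i x = x}) : V) = ε i ((h : H).1 x) := by
    intro i
    let Si : Subgroup H := (MulAction.stabilizer (Perm ι) i).comap σ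
    have hSi : ∀ h : H, h ∈ Si ↔ σ h i = i := fun h => Iff.rfl
    have hproj : ∀ h : Si, ∀ y : V, ε i ((h : H).1 (ε i y)) = ε i ((h : H).1 y) := by
      intro h y
      have h3 := (hσ (h : H) i (ε i y) y)
      rw [(hSi h).1 h.2, mem_D, mem_D, S.idem] at h3
      by_contra h4
      exact (h3.2 h4) rfl
    let F : Si →* Function.End {x : V // ε i x = x} :=
      { toFun := fun h x => ⟨ε i ((h : H).1 x), S.idem _ _⟩
        map_one' := by
          funext x
          exact Subtype.ext x.2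
        map_mul' := by
          intro h k
          funext x
          apply Subtype.ext
          change ε i ((h : H).1 ((k : H).1 x)) = ε i ((h : H).1 (ε i ((k : H).1 x)))
          rw [hproj] }
    let ρ : Si →* Perm {x : V // ε i x = x} := F.toHomPerm
    have hρ : ∀ h x, ((ρ h x : {x : V // ε i x = x}) : V) = ε i ((h : H).1 x) := fun h x => rfl
    have hXc : Nat.card {x : V // ε i x = x} < Nat.card V := by
      obtain ⟨j, hj⟩ : ∃ j, j ≠ i := by
        obtain ⟨a, b, hab⟩ := h2
        by_cases ha : a = i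
        · exact ⟨b, fun hb => hab (ha.trans hb.symm)⟩
        · exact ⟨a, ha⟩
      refine Finite.card_subtype_lt (x := S.s j) ?_
      rw [S.s_other (Ne.symm hj)]
      exact fun h3 => S.s_ne j h3.symm
    let Gi : Subgroup Si := G.subgroupOf Si
    have hGi : Group.IsSolvable Gi := by
      have h3 : Group.IsSolvable (G ⊓ Si : Subgroup H) := solvable_of_le inf_le_left hGs
      have h4 : Gi.map Si.subtype ≤ G ⊓ Si := by
        rintro _ ⟨x, hx, rfl⟩
        exact ⟨hx, x.2⟩
      have h5 := solvable_of_le h4 h3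
      exact Group.isSolvable_of_isSolvable_injective
        (f := (Gi.equivMapOfInjective Si.subtype Si.subtype_injective).toMonoidHom)
        (Gi.equivMapOfInjective Si.subtype Si.subtype_injective).injective
    have hDi : ∀ a b : {x : V // ε i x = x}, a ≠ b → D ε (a : V) b = {i} := by
      intro a b hab
      ext l
      rw [mem_D, Set.mem_singleton_iff]
      by_cases hl : l = i
      · subst hl
        rw [a.2, b.2]
        simp only [iff_true]
        exact fun h9 => hab (Subtype.ext h9)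
      · rw [← a.2, ← b.2, S.orth hl, S.orth hl]
        simp [hl]
    -- agreement
    have hagr0 : ∀ h : Si, ∀ a b c : V, (∃ x y, x ∈ ({a, b, c} : Set V) ∧ y ∈ ({a, b, c} : Set V) ∧
        D ε x y = {i}) → ∃ g ∈ Gi, (g : H).1 a = (h : H).1 a ∧ (g : H).1 b = (h : H).1 b ∧
          (g : H).1 c = (h : H).1 c := by
      intro h a b c hxy
      obtain ⟨x, y, hx, hy, hD⟩ := hxy
      obtain ⟨g, hg, g1, g2, g3⟩ := (h : H).2 a b c
      have hxe : ∀ z ∈ ({a, b, c} : Set V), g z = (h : H).1 z := by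
        intro z hz
        simp only [Set.mem_insert_iff, Set.mem_singleton_iff] at hz
        rcases hz with rfl | rfl | rfl
        · exact g1
        · exact g2
        · exact g3
      have h6 : σ ⟨g, le_cl _ hg⟩ i = σ h i :=
        agree (hσ ⟨g, le_cl _ hg⟩) (hσ h) (hxe x hx) (hxe y hy) (hxe y hy)
          (by rw [Set.inter_self]; exact hD)
      rw [(hSi h).1 h.2] at h6
      exact ⟨⟨⟨g, le_cl _ hg⟩, h6⟩, hg, g1, g2, g3⟩
    have hagr : ∀ h : Si, ∀ a b c : {x : V // ε i x = x}, ∃ g ∈ Gi, ρ g a = ρ h a ∧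
        ρ g b = ρ h b ∧ ρ g c = ρ h c := by
      intro h a b c
      by_cases hab : a = b
      · subst hab
        by_cases hac : a = c
        · subst hac
          obtain ⟨g, hg, g1, g2, g3⟩ := hagr0 h a (a + S.s i) a ⟨a, a + S.s i, by simp, by simp, S.D_add _⟩
          refine ⟨g, hg, ?_, ?_, ?_⟩ <;>
          · apply Subtype.ext
            rw [hρ, hρ, g1]
        · obtain ⟨g, hg, g1, g2, g3⟩ := hagr0 h a a c ⟨a, c, by simp, by simp, hDi a c hac⟩
          refine ⟨g, hg, ?_, ?_, ?_⟩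
          · apply Subtype.ext
            rw [hρ, hρ, g1]
          · apply Subtype.ext
            rw [hρ, hρ, g1]
          · apply Subtype.ext
            rw [hρ, hρ, g3]
      · obtain ⟨g, hg, g1, g2, g3⟩ := hagr0 h a b c ⟨a, b, by simp, by simp, hDi a b hab⟩
        refine ⟨g, hg, ?_, ?_, ?_⟩
        · apply Subtype.ext
          rw [hρ, hρ, g1]
        · apply Subtype.ext
          rw [hρ, hρ, g2]
        · apply Subtype.ext
          rw [hρ, hρ, g3]
    have hsol := hI.act hXc ρ Gi hGi hagr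
    have hle : σ.ker ≤ Si := by
      intro h hh
      rw [hSi, MonoidHom.mem_ker.1 hh]
      rfl
    refine ⟨ρ.comp (Subgroup.inclusion hle), ?_, fun h x => rfl⟩
    refine solvable_of_le ?_ hsol
    rintro _ ⟨x, rfl⟩
    exact ⟨Subgroup.inclusion hle x, rfl⟩
  choose f hf1 hf2 using hmain
  have hker : Group.IsSolvable σ.ker := by
    refine solvable_of_family f hf1 ?_
    intro x hx
    apply Subtype.ext
    apply Subtype.ext
    ext a
    change (x : H).1 a = a
    rw [← sub_eq_zero]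
    apply hsum
    intro i
    rw [map_sub, sub_eq_zero]
    have h3 := hσ (x : H) i (ε i a) a
    have h4 : σ (x : H) = 1 := x.2
    rw [h4] at h3
    change i ∈ _ ↔ i ∈ _ at h3
    rw [mem_D, mem_D, S.idem] at h3
    have h5 : ε i ((x : H).1 (ε i a)) = ε i ((x : H).1 a) := by
      by_contra h6
      exact (h3.2 h6) rfl
    rw [← h5]
    have h6 := hf2 i x ⟨ε i a, S.idem i a⟩
    rw [hx i] at h6
    exact h6.symm
  have hQ : Group.IsSolvable (H ⧸ σ.ker) :=
    Group.isSolvable_of_isSolvable_injective (f := (QuotientGroup.quotientKerEquivRange σ).toMonoidHom)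
      (QuotientGroup.quotientKerEquivRange σ).injective
  exact (Group.isSolvable_iff_subgroup_quotient σ.ker).2 ⟨hker, hQ⟩

end Cfsg.Agent.H618.TcStepC
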